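import Cfsg.Agent.OrthExtFour.Model
import Cfsg.Agent.MaxSub.QuadraticBasic

/-!
# `O₄(q²)` inside `O₈(q)`: the circle of the anisotropic part

`card_circle`: it has `q² + 1` points; `span_sphere`: a sphere spans the plane over `F`.
-/

set_option autoImplicit false
set_option linter.unusedSectionVars false

namespace CfsgLib.OrthExtFour

open Matrix Module QuadraticAlgebra

variable {F : Type*} [Field F] [Fintype F] {δ : F} [Fact (∀ r : F, r ^ 2 ≠ δ + 0 * r)]

noncomputable instance instFintypeQK : Fintype (QK δ) :=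
  Fintype.ofEquiv (F × F) (QuadraticAlgebra.equivProd δ 0).symm

theorem card_QK : Fintype.card (QK δ) = Fintype.card F ^ 2 := by
  rw [Fintype.ofEquiv_card, Fintype.card_prod, sq]

theorem odd_card_QK (hodd : Odd (Fintype.card F)) : Odd (Fintype.card (QK δ)) := by
  rw [card_QK]; exact hodd.pow

theorem two_ne_zero_QK (h2 : (2 : F) ≠ 0) : (2 : QK δ) ≠ 0 := fun h => h2 (by
  simpa using congrArg QuadraticAlgebra.re h)

variable {c : QK δ × QK δ}

theorem c1_ne (ha : ∀ X, qw c X = 0 → X = 0) : c.1 ≠ 0 := fun h => by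
  simpa using ha (1, 0) (by simp [qw, h])

theorem c2_ne (ha : ∀ X, qw c X = 0 → X = 0) : c.2 ≠ 0 := fun h => by
  simpa using ha (0, 1) (by simp [qw, h])

/-- The binary part takes every value. -/
theorem exists_qw_eq (hodd : Odd (Fintype.card F)) (ha : ∀ X, qw c X = 0 → X = 0) (k : QK δ) :
    ∃ X, qw c X = k := by
  obtain ⟨x, y, h⟩ := MaxSub.exists_sq_add_sq (odd_card_QK hodd) (c1_ne ha) (c2_ne ha) k
  exact ⟨(x, y), h⟩

theorem one_add_ne_zero (ha : ∀ X, qw c X = 0 → X = 0) (t : QK δ) :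
    1 + c.2 / c.1 * t ^ 2 ≠ 0 := by
  intro h
  have := ha (1, t) (by
    show c.1 * 1 ^ 2 + c.2 * t ^ 2 = 0
    have h' : c.1 * (1 + c.2 / c.1 * t ^ 2) = 0 := by rw [h, mul_zero]
    rw [mul_add, ← mul_assoc, mul_div_cancel₀ _ (c1_ne ha)] at h'
    linear_combination h')
  simp at this

/-- The rational parametrisation. -/
noncomputable def param (c : QK δ × QK δ) : Option (QK δ) → QK δ × QK δ
  | none => (-1, 0)
  | some t => ((1 - c.2 / c.1 * t ^ 2) / (1 + c.2 / c.1 * t ^ 2), 2 * t / (1 + c.2 / c.1 * t ^ 2))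

theorem circle_param (ha : ∀ X, qw c X = 0 → X = 0) (o : Option (QK δ)) : Circle c (param c o) := by
  cases o with
  | none => simp [Circle, param]
  | some t =>
    have h := one_add_ne_zero ha t
    show (_ / _) ^ 2 + c.2 / c.1 * (_ / _) ^ 2 = 1
    generalize c.2 / c.1 = ν at h ⊢
    field_simp
    ring

theorem param_injective (h2 : (2 : F) ≠ 0) (ha : ∀ X, qw c X = 0 → X = 0) :
    Function.Injective (param (δ := δ) c) := by
  have h2' := two_ne_zero_QK (δ := δ) h2
  have key : ∀ t, (param c (some t)).1 + 1 = 2 / (1 + c.2 / c.1 * t ^ 2) := fun t => by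
    have h := one_add_ne_zero ha t
    show _ / _ + 1 = _
    rw [div_add_one h]; congr 1; ring
  have hne : ∀ t, param c (some t) ≠ param c none := fun t h => by
    have := key t
    rw [h] at this
    exact div_ne_zero h2' (one_add_ne_zero ha t) (by rw [← this]; simp [param])
  intro o o' h
  cases o with
  | none => cases o' with
    | none => rfl
    | some t => exact absurd h.symm (hne t)
  | some t => cases o' with
    | none => exact absurd h (hne t)
    | some t' =>
      have e := key t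
      rw [h, key t'] at e
      have hs : 1 + c.2 / c.1 * t ^ 2 = 1 + c.2 / c.1 * t' ^ 2 :=
        (mul_left_cancel₀ h2' ((div_eq_div_iff (one_add_ne_zero ha t') (one_add_ne_zero ha t)).1 e))
      have h' := congrArg Prod.snd h
      simp only [param, hs] at h'
      rw [div_left_inj' (one_add_ne_zero ha t')] at h'
      rw [mul_left_cancel₀ h2' h']

theorem card_circle_le (h2 : (2 : F) ≠ 0) (ha : ∀ X, qw c X = 0 → X = 0) :
    Fintype.card F ^ 2 + 1 ≤ Nat.card {cs // Circle c cs} := by
  have h := Nat.card_le_card_of_injective (fun o => (⟨param c o, circle_param ha o⟩ : {cs // Circle c cs}))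
    fun o o' he => param_injective h2 ha (congrArg Subtype.val he)
  rwa [Nat.card_eq_fintype_card, Fintype.card_option, card_QK] at h

theorem card_circle (h2 : (2 : F) ≠ 0) (ha : ∀ X, qw c X = 0 → X = 0) :
    Nat.card {cs // Circle c cs} = Fintype.card F ^ 2 + 1 := by
  rw [← card_QK (δ := δ), ← Fintype.card_option, ← Nat.card_eq_fintype_card]
  refine (Nat.card_eq_of_bijective (fun o => (⟨param c o, circle_param ha o⟩ : {cs // Circle c cs}))
    ⟨fun o o' he => param_injective h2 ha (congrArg Subtype.val he), ?_⟩).symm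
  rintro ⟨⟨x, y⟩, h⟩
  have h' : x ^ 2 + c.2 / c.1 * y ^ 2 = 1 := h
  by_cases hx : x = -1
  · refine ⟨none, Subtype.ext (Prod.ext hx.symm ?_)⟩
    subst hx
    have : c.2 / c.1 * y ^ 2 = 0 := by linear_combination h'
    have hy : y = 0 := by simpa [c1_ne ha, c2_ne ha] using this
    simp [param, hy]
  · have hx1 : 1 + x ≠ 0 := fun h0 => hx (by linear_combination h0)
    refine ⟨some (y / (1 + x)), Subtype.ext ?_⟩
    have hd := one_add_ne_zero ha (y / (1 + x))
    show (_ / _, _ / _) = _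
    generalize c.2 / c.1 = ν at h' hd ⊢
    refine Prod.ext ?_ ?_ <;> simp only <;> rw [div_eq_iff hd] <;> field_simp
    · linear_combination (-(1 + x)) * h'
    · linear_combination (-y) * h'

/-- A linear form vanishing at all abscissae of a large symmetrical set vanishes. -/
theorem eq_zero_of_fibres {S : Set (QK δ × QK δ)} (f : QK δ →ₗ[F] F)
    (pr : QK δ × QK δ → QK δ) (hq : 2 * Fintype.card F < Nat.card S)
    (hf : ∀ cs ∈ S, f (pr cs) = 0)
    (hfib : ∀ a ∈ S, ∀ b ∈ S, ∀ d ∈ S, pr a = pr b → pr a = pr d → a = b ∨ a = d ∨ b = d) :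
    f = 0 := by
  classical
  by_contra hne
  obtain ⟨x, hx⟩ : ∃ x, f x ≠ 0 := by
    by_contra! h
    exact hne (LinearMap.ext h)
  have hsurj : LinearMap.range f = ⊤ := LinearMap.range_eq_top.2 fun y => ⟨(y / f x) • x, by
    rw [map_smul, smul_eq_mul, div_mul_cancel₀ _ hx]⟩
  have hker : Module.finrank F (LinearMap.ker f) = 1 := by
    have := f.finrank_range_add_finrank_ker
    rw [hsurj, finrank_top, Module.finrank_self, QuadraticAlgebra.finrank_eq_two] at this
    omega
  have hK : (Finset.univ.filter fun k => f k = 0).card = Fintype.card F := by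
    rw [← Fintype.card_subtype]
    have := Module.card_eq_pow_finrank (K := F) (V := LinearMap.ker f)
    rw [hker, pow_one] at this
    rw [← this]
    exact Fintype.card_congr (Equiv.subtypeEquivRight fun k => LinearMap.mem_ker.symm)
  rw [Nat.card_eq_card_toFinset S] at hq
  have := Finset.card_le_mul_card_image_of_maps_to (f := pr) (s := S.toFinset)
    (t := Finset.univ.filter fun k => f k = 0) (fun cs hcs => by simpa using hf cs (Set.mem_toFinset.1 hcs))
    2 (fun k _ => by
      by_contra! h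
      obtain ⟨a, ha, b, hb, d, hd, hab, had, hbd⟩ := Finset.two_lt_card.1 h
      simp only [Finset.mem_filter, Set.mem_toFinset] at ha hb hd
      rcases hfib a ha.1 b hb.1 d hd.1 (ha.2.trans hb.2.symm) (ha.2.trans hd.2.symm) with e | e | e
      · exact hab e
      · exact had e
      · exact hbd e)
  omega

/-- A sphere of non-zero radius spans over `F`. -/
theorem span_sphere (hodd : Odd (Fintype.card F)) (h2 : (2 : F) ≠ 0)
    (ha : ∀ X, qw c X = 0 → X = 0) {k : QK δ} (hk : k ≠ 0) :
    Submodule.span F {X | qw c X = k} = ⊤ := by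
  obtain ⟨ν, hν⟩ : ∃ ν, ν = c.2 / c.1 := ⟨_, rfl⟩
  have hν0 : ν ≠ 0 := hν ▸ div_ne_zero (c2_ne ha) (c1_ne ha)
  have hc : c.1 * ν = c.2 := hν ▸ mul_div_cancel₀ _ (c1_ne ha)
  obtain ⟨⟨x, y⟩, hxy⟩ := exists_qw_eq hodd ha k
  have hxy' : c.1 * x ^ 2 + c.2 * y ^ 2 = k := hxy
  by_contra hne
  obtain ⟨f, hf0, hf⟩ := Submodule.exists_dual_map_eq_bot_of_lt_top
    (lt_top_iff_ne_top.2 hne) inferInstance
  have hfX : ∀ X, qw c X = k → f X = 0 := fun X hX => by
    have := Submodule.mem_map_of_mem (f := f) (Submodule.subset_span (R := F) (s := {X | qw c X = k}) hX)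
    rwa [hf, Submodule.mem_bot] at this
  let α : QK δ →ₗ[F] F :=
    { toFun := fun a => f (a * x, a * y)
      map_add' := fun a b => by rw [← map_add, Prod.mk_add_mk, add_mul, add_mul]
      map_smul' := fun t a => by rw [RingHom.id_apply, ← map_smul, Prod.smul_mk, smul_mul_assoc, smul_mul_assoc] }
  let β : QK δ →ₗ[F] F :=
    { toFun := fun b => f (-(ν * b * y), b * x)
      map_add' := fun a b => by
        rw [← map_add, Prod.mk_add_mk]; exact congrArg f (Prod.ext (by ring) (by ring))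
      map_smul' := fun t a => by
        rw [RingHom.id_apply, ← map_smul, Prod.smul_mk, smul_neg, mul_smul_comm, smul_mul_assoc, smul_mul_assoc] }
  have hpt : ∀ a b : QK δ, Circle c (a, b) → α a + β b = 0 := fun a b hab => by
    have hab' : a ^ 2 + ν * b ^ 2 = 1 := hν ▸ hab
    show f _ + f _ = 0
    rw [← map_add, Prod.mk_add_mk]
    refine hfX _ ?_
    show c.1 * _ ^ 2 + c.2 * _ ^ 2 = k
    rw [← hc] at hxy' ⊢
    linear_combination (c.1 * x ^ 2 + c.1 * ν * y ^ 2) * hab' + hxy'
  have hsep : ∀ cs, Circle c cs → α cs.1 = 0 ∧ β cs.2 = 0 := fun cs h => by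
    have e1 := hpt cs.1 cs.2 h
    have e2 := hpt cs.1 (-cs.2) (by simpa [Circle] using h)
    rw [map_neg] at e2
    exact ⟨(mul_eq_zero.1 (by linear_combination e1 + e2 : (2 : F) * α cs.1 = 0)).resolve_left h2,
      (mul_eq_zero.1 (by linear_combination e1 - e2 : (2 : F) * β cs.2 = 0)).resolve_left h2⟩
  have hcard : 2 * Fintype.card F < Nat.card {cs | Circle c cs} := by
    have h1 := card_circle_le h2 ha
    have h3 : 2 < Fintype.card F := by
      have := Fintype.one_lt_card (α := F)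
      obtain ⟨m, hm⟩ := hodd
      omega
    have : 3 * Fintype.card F ≤ Fintype.card F ^ 2 := by rw [sq]; exact Nat.mul_le_mul_right _ h3
    show _ < Nat.card {cs // Circle c cs}
    omega
  have hα : α = 0 := eq_zero_of_fibres α Prod.fst hcard (fun cs h => (hsep cs h).1) (by
    intro a ha' b hb d hd hab had
    have e1 : ν * (a.2 ^ 2 - b.2 ^ 2) = 0 := by
      have := (hν ▸ ha' : a.1 ^ 2 + ν * a.2 ^ 2 = 1)
      have := (hν ▸ hb : b.1 ^ 2 + ν * b.2 ^ 2 = 1)
      rw [hab] at *
      linear_combination ‹b.1 ^ 2 + ν * a.2 ^ 2 = 1› - this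
    have e2 : ν * (a.2 ^ 2 - d.2 ^ 2) = 0 := by
      have := (hν ▸ ha' : a.1 ^ 2 + ν * a.2 ^ 2 = 1)
      have := (hν ▸ hd : d.1 ^ 2 + ν * d.2 ^ 2 = 1)
      rw [had] at *
      linear_combination ‹d.1 ^ 2 + ν * a.2 ^ 2 = 1› - this
    rcases eq_or_eq_neg_of_sq_eq_sq _ _ (sub_eq_zero.1 ((mul_eq_zero.1 e1).resolve_left hν0)) with e | e
    · exact Or.inl (Prod.ext hab e)
    rcases eq_or_eq_neg_of_sq_eq_sq _ _ (sub_eq_zero.1 ((mul_eq_zero.1 e2).resolve_left hν0)) with e' | e'
    · exact Or.inr (Or.inl (Prod.ext had e'))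
    · exact Or.inr (Or.inr (Prod.ext (hab.symm.trans had) (neg_injective (e.symm.trans e')))))
  have hβ : β = 0 := eq_zero_of_fibres β Prod.snd hcard (fun cs h => (hsep cs h).2) (by
    intro a ha' b hb d hd hab had
    have e1 : a.1 ^ 2 = b.1 ^ 2 := by
      have p1 := (hν ▸ ha' : a.1 ^ 2 + ν * a.2 ^ 2 = 1)
      have p2 := (hν ▸ hb : b.1 ^ 2 + ν * b.2 ^ 2 = 1)
      rw [hab] at p1
      linear_combination p1 - p2
    have e2 : a.1 ^ 2 = d.1 ^ 2 := by
      have p1 := (hν ▸ ha' : a.1 ^ 2 + ν * a.2 ^ 2 = 1)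
      have p2 := (hν ▸ hd : d.1 ^ 2 + ν * d.2 ^ 2 = 1)
      rw [had] at p1
      linear_combination p1 - p2
    rcases eq_or_eq_neg_of_sq_eq_sq _ _ e1 with e | e
    · exact Or.inl (Prod.ext e hab)
    rcases eq_or_eq_neg_of_sq_eq_sq _ _ e2 with e' | e'
    · exact Or.inr (Or.inl (Prod.ext e' had))
    · exact Or.inr (Or.inr (Prod.ext (neg_injective (e.symm.trans e')) (hab.symm.trans had))))
  refine hf0 (LinearMap.ext fun ⟨a, b⟩ => ?_)
  -- solve for the two coefficients
  have hd : x ^ 2 + ν * y ^ 2 ≠ 0 := fun h0 => hk (by rw [← hxy', ← hc]; linear_combination c.1 * h0)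
  obtain ⟨D, hD⟩ : ∃ D, D * (x ^ 2 + ν * y ^ 2) = 1 := ⟨_, inv_mul_cancel₀ hd⟩
  have hα0 : f (D * (a * x + ν * b * y) * x, D * (a * x + ν * b * y) * y) = 0 :=
    LinearMap.congr_fun hα _
  have hβ0 : f (-(ν * (D * (b * x - a * y)) * y), D * (b * x - a * y) * x) = 0 :=
    LinearMap.congr_fun hβ _
  have := congrArg₂ (· + ·) hα0 hβ0
  simp only [← map_add, Prod.mk_add_mk, add_zero] at this
  refine Eq.trans (congrArg f (Prod.ext ?_ ?_)) this <;> simp only
  · linear_combination -a * hD
  · linear_combination -b * hD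

end CfsgLib.OrthExtFour
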