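import Cfsg.Agent.OrthExtFour.Stabiliser
import Cfsg.Agent.Forms.OrthIndex

/-!
# `O₄(q²)` inside `O₈(q)`: some element outside `N` fixes a singular `K`-line

Otherwise the translations act freely on the other points of the orbit of the line, and the orders
`|Ω|`, `q⁴` and `q⁴ - 1` leave no room for the index.
-/

set_option autoImplicit false
set_option linter.unusedSectionVars false

namespace CfsgLib.OrthExtFour

open Matrix Module QuadraticAlgebra CfsgLib.Spinor CfsgLib.Forms CfsgLib.OrthMax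

/-- The numerical contradiction. -/
theorem no_small_index {x r : ℕ} (hx : 9 ≤ x) (hr : 2 ≤ r) (hco : Nat.Coprime r x)
    (hmod : x ^ 2 ∣ r * (x ^ 2 + 1) - 1)
    (hdvd : r * (x ^ 2 + 1) * (x ^ 2 * (x ^ 2 - 1)) ∣
      2 * x ^ 6 * (x ^ 2 + 1) * ((x - 1) * (x ^ 2 - 1) * (x ^ 3 - 1))) : False := by
  have h1 : 1 < x ^ 2 := Nat.one_lt_pow two_ne_zero (by omega)
  have hr1 : r ∣ 2 * ((x - 1) * (x ^ 3 - 1)) := by
    have h : r * ((x ^ 2 + 1) * (x ^ 2 * (x ^ 2 - 1))) ∣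
        (2 * x ^ 4 * ((x - 1) * (x ^ 3 - 1))) * ((x ^ 2 + 1) * (x ^ 2 * (x ^ 2 - 1))) := by
      have e1 : r * ((x ^ 2 + 1) * (x ^ 2 * (x ^ 2 - 1))) = r * (x ^ 2 + 1) * (x ^ 2 * (x ^ 2 - 1)) := by ring
      have e2 : (2 * x ^ 4 * ((x - 1) * (x ^ 3 - 1))) * ((x ^ 2 + 1) * (x ^ 2 * (x ^ 2 - 1))) =
          2 * x ^ 6 * (x ^ 2 + 1) * ((x - 1) * (x ^ 2 - 1) * (x ^ 3 - 1)) := by ring
      rw [e1, e2]; exact hdvd
    have h' := Nat.dvd_of_mul_dvd_mul_right
      (Nat.mul_pos (by positivity) (Nat.mul_pos (by positivity) (by omega))) h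
    rw [show 2 * x ^ 4 * ((x - 1) * (x ^ 3 - 1)) = 2 * ((x - 1) * (x ^ 3 - 1)) * x ^ 4 by ring] at h'
    exact (hco.pow_right 4).dvd_of_dvd_mul_right h'
  obtain ⟨s, hs⟩ := hr1
  obtain ⟨m, hm⟩ := hmod
  have h3 : 1 ≤ x ^ 3 := Nat.one_le_pow _ _ (by omega)
  have hs' : (r : ℤ) * s = 2 * (((x : ℤ) - 1) * ((x : ℤ) ^ 3 - 1)) := by
    have := congrArg (Nat.cast (R := ℤ)) hs
    push_cast [Nat.cast_sub (by omega : 1 ≤ x), Nat.cast_sub h3] at this
    linarith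
  have hm' : (r : ℤ) * ((x : ℤ) ^ 2 + 1) = (x : ℤ) ^ 2 * m + 1 := by
    have h : r * (x ^ 2 + 1) = x ^ 2 * m + 1 := by
      have : 1 ≤ r * (x ^ 2 + 1) := Nat.one_le_iff_ne_zero.2 (by positivity)
      omega
    exact_mod_cast h
  obtain ⟨j, hj⟩ : ∃ j : ℤ, (r : ℤ) = 1 + j * (x : ℤ) ^ 2 := ⟨m - r, by linarith⟩
  obtain ⟨X, hX⟩ : ∃ X : ℤ, X = (x : ℤ) := ⟨_, rfl⟩
  obtain ⟨S, hS⟩ : ∃ S : ℤ, S = (s : ℤ) := ⟨_, rfl⟩
  rw [← hX, ← hS] at hs'
  rw [← hX] at hj
  rw [hj] at hs'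
  have hX9 : 9 ≤ X := by rw [hX]; exact_mod_cast hx
  have hj1 : 1 ≤ j := by
    have : (2 : ℤ) ≤ 1 + j * X ^ 2 := by rw [← hj]; exact_mod_cast hr
    nlinarith
  obtain ⟨k, hk⟩ : ∃ k : ℤ, S + 2 * X - 2 = k * X ^ 2 :=
    ⟨2 * X ^ 2 - 2 * X - j * S, by linear_combination hs'⟩
  have hS0 : 0 ≤ S := by rw [hS]; positivity
  have hk1 : 1 ≤ k := by nlinarith
  have hE : (j * k - 2) * X ^ 2 - 2 * (j - 1) * X + (k + 2 * j) = 0 := by
    have : X ^ 2 * ((j * k - 2) * X ^ 2 - 2 * (j - 1) * X + (k + 2 * j)) = 0 := by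
      linear_combination hs' - (1 + j * X ^ 2) * hk
    exact (mul_eq_zero.1 this).resolve_left (by positivity)
  rcases (by omega : k = 1 ∨ 2 ≤ k) with rfl | hk2
  · rcases (by omega : j = 1 ∨ j = 2 ∨ 3 ≤ j) with rfl | rfl | hj3
    · nlinarith
    · nlinarith
    · nlinarith [mul_le_mul_of_nonneg_left hX9 (by nlinarith : (0 : ℤ) ≤ (j - 2) * X),
        mul_nonneg (by omega : (0 : ℤ) ≤ j - 3) (by omega : (0 : ℤ) ≤ X)]
  · nlinarith [mul_nonneg (mul_nonneg (by omega : (0 : ℤ) ≤ j) (by omega : (0 : ℤ) ≤ k - 2)) (sq_nonneg X),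
      mul_nonneg (mul_nonneg (by omega : (0 : ℤ) ≤ j - 1) (by omega : (0 : ℤ) ≤ X - 1)) (by omega : (0 : ℤ) ≤ X)]

variable {F : Type*} [Field F] {δ : F} {ι : Type} [Fintype ι] [DecidableEq ι]
  {Q : QuadraticForm F (ι → F)} {Θ : Matrix ι ι F} (φ : Frame Q Θ δ)
  [Fintype F] [Fact (∀ r : F, r ^ 2 ≠ δ + 0 * r)]

theorem card_inf_mul_relIndex {G : Type*} [Group G] (H K : Subgroup G) :
    Nat.card (H ⊓ K : Subgroup G) * H.relIndex K = Nat.card K := by
  rw [← Subgroup.inf_relIndex_right H K, ← Subgroup.relIndex_bot_left, ← Subgroup.relIndex_bot_left K]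
  exact Subgroup.relIndex_mul_relIndex _ _ _ bot_le inf_le_right

theorem sign_smul_smul (e : F) (p : W4 δ) : th δ • (e • p) = e • (th δ • p) := smul_comm _ _ _

/-- The subgroup `N`. -/
noncomputable def inNSubgroup : Subgroup (Isom Q) where
  carrier := {g | InN φ g}
  mul_mem' {a b} ha hb := by
    rcases ha with ha | ha <;> rcases hb with hb | hb
    · exact Or.inl (inN_mul_left φ ha hb)
    · exact Or.inr fun p => by rw [ap_mul, ap_mul, hb, map_neg, ha]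
    · exact Or.inr fun p => by rw [ap_mul, ap_mul, hb, ha]
    · exact Or.inl fun p => by rw [ap_mul, ap_mul, hb, map_neg, ha, neg_neg]
  one_mem' := Or.inl fun p => by rw [ap_one, ap_one]
  inv_mem' {a} ha := by
    rcases ha with ha | ha
    · exact Or.inl (lin_inv φ ha)
    · exact Or.inr fun p => by
        apply ap_injective φ a
        rw [map_neg, ha, ap_ap_inv, ap_ap_inv, neg_neg]

/-- The stabiliser of the first line. -/
noncomputable def stabSubgroup : Subgroup (Isom Q) where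
  carrier := {g | Stab φ g}
  mul_mem' {a b} ha hb := fun y => by rw [ap_mul, ap_line φ hb y]; exact ha _
  one_mem' := fun y => by rw [ap_one]; rfl
  inv_mem' {_} ha := stab_inv φ ha

/-- The translations. -/
noncomputable def uSubgroup : Subgroup (Isom Q) where
  carrier := Set.range (uIso φ)
  mul_mem' := by
    rintro _ _ ⟨v, rfl⟩ ⟨w, rfl⟩
    exact ⟨v + w, uIso_add φ v w⟩
  one_mem' := ⟨0, uIso_zero φ⟩
  inv_mem' := by
    rintro _ ⟨w, rfl⟩
    exact ⟨-w, eq_inv_of_mul_eq_one_left (by rw [← uIso_add, neg_add_cancel, uIso_zero])⟩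

theorem dIso_one : dIso φ (1 : (QK δ)ˣ) = 1 := eq_of_ap φ fun p => by simp [ap_dIso, ap_one]

theorem circle_one (c : QK δ × QK δ) : Circle c (1, 0) := by simp [Circle]

theorem circle_mul {c cs cs' : QK δ × QK δ} (h : Circle c cs) (h' : Circle c cs') :
    Circle c (cs.1 * cs'.1 - c.2 / c.1 * cs.2 * cs'.2, cs.1 * cs'.2 + cs.2 * cs'.1) := by
  have e1 : cs.1 ^ 2 + c.2 / c.1 * cs.2 ^ 2 = 1 := h
  have e2 : cs'.1 ^ 2 + c.2 / c.1 * cs'.2 ^ 2 = 1 := h'
  show _ ^ 2 + c.2 / c.1 * _ ^ 2 = 1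
  simp only
  linear_combination (cs'.1 ^ 2 + c.2 / c.1 * cs'.2 ^ 2) * e1 + e2

/-- The torus. -/
noncomputable def torus : Subgroup (Isom Q) where
  carrier := {g | ∃ (l : (QK δ)ˣ) (cs : QK δ × QK δ) (h : Circle φ.c cs), g = dIso φ l * rotIso φ cs h}
  mul_mem' := by
    rintro _ _ ⟨l, cs, h, rfl⟩ ⟨l', cs', h', rfl⟩
    refine ⟨l * l', _, circle_mul h h', eq_of_ap φ fun p => ?_⟩
    simp only [ap_mul, ap_dIso, ap_rotIso, rotMap, LinearMap.coe_mk, AddHom.coe_mk, Units.val_mul,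
      mul_inv, Prod.mk.injEq]
    refine ⟨?_, ?_, ?_, ?_⟩ <;> ring
  one_mem' := ⟨1, (1, 0), circle_one _, eq_of_ap φ fun p => by
    rw [ap_one, ap_mul, ap_dIso, ap_rotIso, rotMap_one]; simp⟩
  inv_mem' := by
    rintro _ ⟨l, cs, h, rfl⟩
    refine ⟨l⁻¹, (cs.1, -cs.2), by simpa [Circle] using h, eq_of_ap φ fun p => ?_⟩
    apply ap_injective φ (dIso φ l * rotIso φ cs h)
    have e1 : cs.1 ^ 2 + φ.c.2 / φ.c.1 * cs.2 ^ 2 = 1 := h
    have hl : (l : QK δ) * ((l⁻¹ : (QK δ)ˣ) : QK δ) = 1 := l.mul_inv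
    rw [ap_ap_inv]
    simp only [ap_mul, ap_dIso, ap_rotIso, rotMap, LinearMap.coe_mk, AddHom.coe_mk, inv_inv]
    refine Prod.ext ?_ (Prod.ext ?_ (Prod.ext ?_ ?_)) <;> simp only
    · linear_combination -p.1 * hl
    · linear_combination -p.2.1 * hl
    · linear_combination -p.2.2.1 * e1
    · linear_combination -p.2.2.2 * e1

theorem lin_torus {g : Isom Q} (hg : g ∈ torus φ) (p : W4 δ) :
    ap φ g (th δ • p) = th δ • ap φ g p := by
  obtain ⟨l, cs, h, rfl⟩ := hg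
  exact inN_mul_left φ (lin_dIso φ l) (lin_rotIso φ cs h) p

theorem uSubgroup_le : uSubgroup φ ≤ stabSubgroup φ ⊓ inNSubgroup φ := by
  rintro _ ⟨w, rfl⟩
  exact ⟨fun a => by rw [ap_uIso, uMap_apply]; simp, Or.inl (lin_uIso φ w)⟩

theorem torus_le : torus φ ≤ stabSubgroup φ ⊓ inNSubgroup φ := by
  intro g hg
  refine ⟨fun a => ?_, Or.inl (lin_torus φ hg)⟩
  obtain ⟨l, cs, h, rfl⟩ := hg
  simp [ap_mul, ap_dIso, ap_rotIso, rotMap]

theorem card_uSubgroup : Nat.card (uSubgroup φ) = Fintype.card F ^ 4 := by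
  rw [show Nat.card (uSubgroup φ) = Nat.card (QK δ × QK δ) from
    (Nat.card_congr (Equiv.ofInjective _ (uIso_injective φ))).symm, Nat.card_eq_fintype_card, Fintype.card_prod, card_QK]
  ring

theorem card_torus (h2 : (2 : F) ≠ 0) :
    Nat.card (torus φ) = (Fintype.card F ^ 2 - 1) * (Fintype.card F ^ 2 + 1) := by
  classical
  rw [← card_circle h2 φ.aniso, ← card_QK (δ := δ), ← Fintype.card_units, ← Nat.card_eq_fintype_card,
    ← Nat.card_prod]
  refine (Nat.card_eq_of_bijective (fun x : (QK δ)ˣ × {cs // Circle φ.c cs} =>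
    (⟨dIso φ x.1 * rotIso φ x.2.1 x.2.2, x.1, x.2.1, x.2.2, rfl⟩ : torus φ)) ⟨?_, ?_⟩).symm
  · rintro ⟨l, cs, h⟩ ⟨l', cs', h'⟩ e
    have e' := congrArg Subtype.val e
    have e1 := congrArg (fun g => ap φ g (1, 0, (1, 0))) e'
    simp [ap_mul, ap_dIso, ap_rotIso, rotMap] at e1
    exact Prod.ext (Units.ext e1.1) (Subtype.ext e1.2)
  · rintro ⟨_, l, cs, h, rfl⟩
    exact ⟨(l, ⟨cs, h⟩), rfl⟩

theorem card_dvd_stab (h2 : (2 : F) ≠ 0) :
    Fintype.card F ^ 4 * (Fintype.card F ^ 4 - 1) ∣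
      Nat.card (stabSubgroup φ ⊓ inNSubgroup φ : Subgroup (Isom Q)) := by
  refine Nat.Coprime.mul_dvd_of_dvd_of_dvd ?_ ?_ ?_
  · have h := (Nat.coprime_self_sub_right (Nat.one_le_pow 4 (Fintype.card F) Fintype.card_pos)).2
      (Nat.coprime_one_right (Fintype.card F ^ 4))
    exact h
  · rw [← card_uSubgroup φ]
    exact Subgroup.card_dvd_of_le (uSubgroup_le φ)
  · rw [show Fintype.card F ^ 4 - 1 = (Fintype.card F ^ 2 - 1) * (Fintype.card F ^ 2 + 1) by
      rw [mul_comm, ← Nat.sq_sub_sq]; ring_nf, ← card_torus φ h2]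
    exact Subgroup.card_dvd_of_le (torus_le φ)

theorem stab_of_inN {g : Isom Q} (hg : InN φ g) (h : (ap φ g (1, 0, 0)).2 = 0) : Stab φ g := by
  intro a
  have hθ : (ap φ g (th δ • (1, 0, 0))).2 = 0 := by
    rcases hg with hg | hg <;> simp only [hg, Prod.snd_neg, Prod.smul_snd, h, smul_zero, neg_zero]
  rw [show ((a, 0, 0) : W4 δ) = a.re • (1, 0, 0) + a.im • th δ • (1, 0, 0) by ext <;> simp, map_add,
    map_smul, map_smul]
  rw [Prod.snd_add, Prod.smul_snd, Prod.smul_snd, h, hθ, smul_zero, smul_zero, add_zero]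

theorem q4_eq_zero (h2 : (2 : F) ≠ 0) {p : W4 δ} (hq : (q4 φ.c p).re = 0)
    (hb : (b4 φ.c p (th δ • p)).re = 0) : q4 φ.c p = 0 := by
  refine QuadraticAlgebra.ext hq ?_
  rw [show b4 φ.c p (th δ • p) = 2 * (th δ * q4 φ.c p) by
    simp only [b4, q4, Prod.smul_fst, Prod.smul_snd, bw_smul_right, bw_self, smul_eq_mul]; ring] at hb
  simpa [h2, delta_ne] using hb

theorem eq_of_q4 {p : W4 δ} (hq : q4 φ.c p = 0) :
    (p.2.1 = 0 → p = (p.1, 0, 0)) ∧
      (p.2.1 ≠ 0 → p = ap φ (uIso φ (p.2.1⁻¹ • p.2.2)) (0, p.2.1, 0)) := by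
  have hq' : p.1 * p.2.1 + qw φ.c p.2.2 = 0 := hq
  refine ⟨fun hb => ?_, fun hb => ?_⟩
  · rw [hb, mul_zero, zero_add] at hq'
    exact Prod.ext rfl (Prod.ext hb (φ.aniso _ hq'))
  · rw [ap_uIso, uMap_apply]
    refine Prod.ext ?_ (Prod.ext rfl ?_) <;> simp only
    · rw [bw_zero_right, qw_smul]
      field_simp
      linear_combination hq'
    · rw [smul_smul, mul_inv_cancel₀ hb, one_smul, zero_add]

variable {M : Subgroup (Isom Q)}

/-- The orbit of the line under `N ∩ Ω`. -/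
theorem relIndex_stab (hodd : Odd (Fintype.card F)) (h2 : (2 : F) ≠ 0)
    (hQ : (QuadraticMap.polarBilin Q).Nondegenerate) :
    (stabSubgroup φ).relIndex (inNSubgroup φ ⊓ Cfsg.Omega F ⇑Q) = Fintype.card F ^ 4 + 1 := by
  classical
  obtain ⟨wn, hwn⟩ := exists_qw_eq hodd φ.aniso (-1)
  obtain ⟨H, hH⟩ : ∃ H, H = inNSubgroup φ ⊓ Cfsg.Omega F ⇑Q := ⟨_, rfl⟩
  rw [← hH]
  obtain ⟨sw, hsw⟩ : ∃ sw, sw = uIso φ wn * uIso' φ (-wn) * uIso φ wn := ⟨_, rfl⟩
  have hU : ∀ w, uIso φ w ∈ H := fun w =>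
    hH ▸ ⟨Or.inl (lin_uIso φ w), uIso_mem_omega φ h2 hQ w⟩
  have hswH : sw ∈ H := hsw ▸ mul_mem (mul_mem (hU _)
    (hH ▸ ⟨Or.inl (lin_uIso' φ _), uIso'_mem_omega φ h2 hQ _⟩)) (hU _)
  have hswap : ∀ a b, ap φ sw (a, b, 0) = (b, a, 0) := fun a b => by rw [hsw, ap_swapIso φ hwn]
  let rep : Option (QK δ × QK δ) → H := fun o => match o with
    | none => 1
    | some w => ⟨uIso φ w * sw, mul_mem (hU w) hswH⟩
  have hrep : ∀ w a, ap φ (rep (some w) : Isom Q) (a, 0, 0) = (-(qw φ.c w * a), a, a • w) := fun w a => by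
    show ap φ (uIso φ w * sw) _ = _
    rw [ap_mul, hswap, ap_uIso, uMap_apply]
    simp
  have hbij : Function.Bijective fun o => (QuotientGroup.mk (rep o) : H ⧸ (stabSubgroup φ).subgroupOf H) := by
    constructor
    · intro o o' h
      rw [QuotientGroup.eq, Subgroup.mem_subgroupOf] at h
      have h1 : Stab φ (((rep o : H) : Isom Q)⁻¹ * (rep o' : H)) := h
      have h1' := ap_line φ h1 1
      obtain ⟨a, ha⟩ : ∃ a, ap φ (rep o' : H).1 (1, 0, 0) = ap φ (rep o : H).1 (a, 0, 0) := ⟨_, by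
        rw [← h1', ap_mul, ap_ap_inv]⟩
      cases o <;> cases o'
      · rfl
      · exfalso
        rw [hrep, show ((rep none : H) : Isom Q) = 1 from rfl, ap_one] at ha
        simp at ha
      · exfalso
        rw [hrep, show ((rep none : H) : Isom Q) = 1 from rfl, ap_one] at ha
        simp at ha
        exact one_ne_zero (ha.1.trans (by rw [← ha.2.1]; simp))
      · rw [hrep, hrep] at ha
        simp only [Prod.mk.injEq, one_smul] at ha
        rw [← ha.2.1, one_smul] at ha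
        rw [ha.2.2]
    · intro y
      induction y using QuotientGroup.induction_on with
      | _ g =>
      obtain ⟨g, hg⟩ := g
      have hgN : InN φ g := (hH ▸ hg : g ∈ inNSubgroup φ ⊓ Cfsg.Omega F ⇑Q).1
      obtain ⟨p, hp⟩ : ∃ p, p = ap φ g (1, 0, 0) := ⟨_, rfl⟩
      have hq : q4 φ.c p = 0 := by
        refine q4_eq_zero φ h2 ?_ ?_
        · rw [hp, re_q4_ap φ g h2]; simp [q4]
        · have h := re_b4_ap φ g h2 (1, 0, 0) (th δ • (1, 0, 0))
          rcases hgN with hN | hN <;> rw [hN, ← hp] at h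
          · rw [h]; simp [b4]
          · have : b4 φ.c p (-(th δ • p)) = -b4 φ.c p (th δ • p) := by
              simp only [b4, Prod.fst_neg, Prod.snd_neg, bw_neg_right]; ring
            rw [this, re_neg] at h
            rw [← neg_eq_zero, h]; simp [b4]
      obtain ⟨e1, e2⟩ := eq_of_q4 φ hq
      by_cases hb : p.2.1 = 0
      · refine ⟨none, QuotientGroup.eq.2 ?_⟩
        show (1 : Isom Q)⁻¹ * g ∈ stabSubgroup φ
        rw [inv_one, one_mul]
        exact stab_of_inN φ hgN (by rw [← hp, e1 hb]; rfl)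
      · refine ⟨some (p.2.1⁻¹ • p.2.2), QuotientGroup.eq.2 ?_⟩
        show (uIso φ (p.2.1⁻¹ • p.2.2) * sw)⁻¹ * g ∈ stabSubgroup φ
        refine stab_of_inN φ ((inNSubgroup φ).mul_mem ((inNSubgroup φ).inv_mem
          (hH ▸ mul_mem (hU _) hswH : _ ∈ inNSubgroup φ ⊓ Cfsg.Omega F ⇑Q).1) hgN) ?_
        rw [ap_mul, ← hp, e2 hb, ← hswap p.2.1 0, ← ap_mul φ (uIso φ _) sw]
        rw [show (ap φ (uIso φ (p.2.1⁻¹ • p.2.2) * sw) (p.2.1, 0, 0)).2.1⁻¹ •
          (ap φ (uIso φ (p.2.1⁻¹ • p.2.2) * sw) (p.2.1, 0, 0)).2.2 = p.2.1⁻¹ • p.2.2 by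
          rw [ap_mul, hswap, ← e2 hb]]
        rw [ap_inv_ap]
        rfl
  rw [Subgroup.relIndex, Subgroup.index, ← Nat.card_eq_of_bijective _ hbij, Nat.card_eq_fintype_card,
    Fintype.card_option, Fintype.card_prod, card_QK]
  ring

theorem ap_uIso_sub_sub (w : QK δ × QK δ) (r : W4 δ) :
    ap φ (uIso φ w) (ap φ (uIso φ w) r - r) - (ap φ (uIso φ w) r - r) =
      (-(2 * qw φ.c w * r.2.1), 0, 0) := by
  simp only [ap_uIso, uMap_apply, Prod.fst_sub, Prod.snd_sub, sub_self, zero_smul,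
    mul_zero, sub_zero, add_zero, add_sub_cancel_left, bw_smul_right, bw_self]
  refine Prod.ext ?_ (Prod.ext ?_ ?_) <;> simp
  ring

/-- A translation fixing no second point of the orbit. -/
theorem not_stab_conj (h2 : (2 : F) ≠ 0) (hS : ∀ x ∈ M, Stab φ x → InN φ x) {g : Isom Q} (hg : g ∈ M)
    (hgs : ¬ Stab φ g) {w : QK δ × QK δ} (hw : w ≠ 0) (hwM : uIso φ w ∈ M) :
    ¬ Stab φ (g⁻¹ * uIso φ w * g) := by
  intro hh
  obtain ⟨h, hhe⟩ : ∃ h, h = g⁻¹ * uIso φ w * g := ⟨_, rfl⟩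
  rw [← hhe] at hh
  have hhN := hS h (hhe ▸ mul_mem (mul_mem (inv_mem hg) hwM) hg) hh
  -- `h` is `K`-linear, its order being odd
  have hlin : ∀ p, ap φ h (th δ • p) = th δ • ap φ h p := by
    refine hhN.resolve_right fun hanti => ?_
    obtain ⟨p, hp⟩ := CharP.exists F
    have hp' : p.Prime := CharP.char_is_prime F p
    have hpow : ∀ n : ℕ, uIso φ w ^ n = uIso φ (n • w) := fun n => by
      induction n with
      | zero => rw [pow_zero, zero_smul, uIso_zero]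
      | succ n ih => rw [pow_succ, ih, succ_nsmul, uIso_add]
    have hper : h ^ p = 1 := by
      have : g⁻¹ * uIso φ w * g = g⁻¹ * uIso φ w * g⁻¹⁻¹ := by rw [inv_inv]
      rw [hhe, this, conj_pow, hpow, show p • w = (0 : QK δ × QK δ) by
        rw [← Nat.cast_smul_eq_nsmul F, CharP.cast_eq_zero, zero_smul], uIso_zero]
      simp
    have key : ∀ (n : ℕ) q, ap φ (h ^ n) (th δ • q) = (-1 : F) ^ n • th δ • ap φ (h ^ n) q := fun n => by
      induction n with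
      | zero => intro q; simp [ap_one]
      | succ n ih =>
        intro q
        rw [pow_succ, ap_mul, hanti, map_neg, ih, ap_mul, pow_succ, mul_smul, neg_one_smul, smul_neg]
    have hp2 : p ≠ 2 := fun e => by
      subst e
      exact h2 (by exact_mod_cast CharP.cast_eq_zero F 2)
    have := congrArg (fun r : W4 δ => r.1.im) (key p (1, 0, 0))
    rw [hper, (hp'.odd_of_ne_two hp2).neg_one_pow] at this
    simp [ap_one] at this
    exact h2 (by linear_combination this)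
  have hfix : ∀ a, ap φ h (ap φ g⁻¹ (a, 0, 0)) = ap φ g⁻¹ (a, 0, 0) := fun a => by
    rw [hhe, ap_mul, ap_mul, ap_ap_inv, ap_uIso, uMap_apply]
    simp
  obtain ⟨D, hD⟩ : ∃ D : W4 δ → W4 δ, D = fun r => ap φ h (ap φ h r - r) - (ap φ h r - r) := ⟨_, rfl⟩
  have hDg : ∀ r, D r = ap φ g⁻¹ (-(2 * qw φ.c w * (ap φ g r).2.1), 0, 0) := fun r => by
    rw [← ap_uIso_sub_sub φ w (ap φ g r), hD]
    simp only [hhe, ap_mul, map_sub, ap_ap_inv, ap_inv_ap]
  have hq0 : (2 : QK δ) * qw φ.c w ≠ 0 :=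
    mul_ne_zero (two_ne_zero_QK h2) fun e => hw (φ.aniso w e)
  obtain ⟨r, hr⟩ : ∃ r, D r = ap φ g⁻¹ (1, 0, 0) :=
    ⟨ap φ g⁻¹ (0, -(2 * qw φ.c w)⁻¹, 0), by
      rw [hDg, ap_ap_inv]; congr 2; simp only; rw [mul_neg, mul_inv_cancel₀ hq0, neg_neg]⟩
  obtain ⟨p1, hp1⟩ : ∃ p1, p1 = ap φ g⁻¹ (1, 0, 0) := ⟨_, rfl⟩
  rw [← hp1] at hr
  obtain ⟨a2, ha2⟩ : ∃ a2, th δ • p1 = ap φ g⁻¹ (a2, 0, 0) := by
    refine ⟨-(2 * qw φ.c w * (ap φ g (th δ • r)).2.1), ?_⟩
    rw [← hDg (th δ • r), ← hr, hD]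
    simp only [hlin, ← smul_sub]
  have hq : q4 φ.c p1 = 0 := by
    refine q4_eq_zero φ h2 ?_ ?_
    · rw [hp1, re_q4_ap φ _ h2]; simp [q4]
    · rw [ha2, hp1, re_b4_ap φ _ h2]; simp [b4]
  obtain ⟨e1, e2⟩ := eq_of_q4 φ hq
  by_cases hb : p1.2.1 = 0
  · -- then `g` fixes the line
    have hp0 : p1.1 ≠ 0 := fun e => by
      have h0 := e1 hb
      rw [e, hp1] at h0
      have := congrArg (ap φ g) h0
      rw [ap_ap_inv] at this
      rw [show ((0, 0, 0) : W4 δ) = 0 from rfl, map_zero] at this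
      simp at this
    refine hgs fun a => ?_
    obtain ⟨k, hk⟩ : ∃ k, a = k * p1.1 := ⟨a / p1.1, (div_mul_cancel₀ a hp0).symm⟩
    have hd : ((a, 0, 0) : W4 δ) = k.re • p1 + k.im • th δ • p1 := by
      rw [e1 hb, hk]; ext <;> simp <;> ring
    rw [hd, map_add, map_smul, map_smul, ha2, hp1, ap_ap_inv, ap_ap_inv]
    simp
  · obtain ⟨U, hU⟩ : ∃ U, U = uIso φ (p1.2.1⁻¹ • p1.2.2) := ⟨_, rfl⟩
    rw [← hU] at e2
    obtain ⟨h', hh'⟩ : ∃ h', h' = U⁻¹ * h * U := ⟨_, rfl⟩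
    have hUl : ∀ q, ap φ U (th δ • q) = th δ • ap φ U q := hU ▸ lin_uIso φ _
    have hlin' : ∀ q, ap φ h' (th δ • q) = th δ • ap φ h' q := fun q => by
      rw [hh']
      exact inN_mul_left φ (inN_mul_left φ (lin_inv φ hUl) hlin) hUl q
    have hUs : Stab φ U := hU ▸ (uSubgroup_le φ ⟨_, rfl⟩).1
    have hs' : Stab φ h' := hh' ▸ (stabSubgroup φ).mul_mem ((stabSubgroup φ).mul_mem
      ((stabSubgroup φ).inv_mem hUs) hh) hUs
    have hb' : ap φ h' (0, p1.2.1, 0) = (0, p1.2.1, 0) := by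
      apply ap_injective φ U
      rw [← e2 hb, hh', ap_mul, ap_mul, ← e2 hb, ap_ap_inv]
      rw [hp1, hfix]
    have hk' : ∀ k, ap φ h' (0, k, 0) = (0, k, 0) := fun k => by
      obtain ⟨m, rfl⟩ : ∃ m, k = m * p1.2.1 := ⟨k / p1.2.1, (div_mul_cancel₀ k hb).symm⟩
      have hd : ((0, m * p1.2.1, 0) : W4 δ) =
          m.re • (0, p1.2.1, 0) + m.im • th δ • (0, p1.2.1, 0) := by ext <;> simp <;> ring
      rw [hd, map_add, map_smul, map_smul, hlin', hb']
    have hline : ∀ a, ap φ h' (a, 0, 0) = (a, 0, 0) := fun a => by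
      rw [ap_line φ hs' a]
      refine Prod.ext (sub_eq_zero.1 (eq_zero_of_re_mul delta_ne fun k => ?_)) rfl
      have e := re_b4_ap φ h' h2 (a, 0, 0) (0, k, 0)
      rw [hk', ap_line φ hs' a] at e
      simp only [b4, zero_mul, add_zero, bw_zero_left] at e
      rw [mul_sub, re_sub, mul_comm k, mul_comm k, e, sub_self]
    have himage : ∀ q, (ap φ h' q - q).2.1 = 0 := fun q => by
      have e : (ap φ h' q).2.1 = q.2.1 := by
        conv_lhs => rw [decomp q, map_add, map_add, hline, hk']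
        simp [stab_perp φ h2 hs' (p := (0, 0, q.2.2)) rfl]
      simp [e]
    refine hb ?_
    have e := himage (ap φ U⁻¹ (ap φ h r - r))
    rw [hh', ap_mul, ap_mul, ap_ap_inv, ← map_sub, show
      ap φ h (ap φ h r - r) - (ap φ h r - r) = p1 by rw [← hr, hD], e2 hb, ap_inv_ap] at e
    exact e

/-- **Some element outside `N` fixes the line.** -/
theorem exists_stab_notMem (hodd : Odd (Fintype.card F)) (h2 : (2 : F) ≠ 0)
    (hQ : (QuadraticMap.polarBilin Q).Nondegenerate) (hn : 2 ≤ Fintype.card ι)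
    (hord : Nat.card (Isom Q) = 2 * Fintype.card F ^ 12 * (Fintype.card F ^ 4 + 1) *
      ((Fintype.card F ^ 2 - 1) * (Fintype.card F ^ 4 - 1) * (Fintype.card F ^ 6 - 1)))
    (hM : ∀ g ∈ Cfsg.Omega F ⇑Q, InN φ g → g ∈ M) (hMΩ : M ≤ Cfsg.Omega F ⇑Q)
    {g : Isom Q} (hg : g ∈ M) (hgN : ¬ InN φ g) : ∃ x ∈ M, Stab φ x ∧ ¬ InN φ x := by
  classical
  by_contra! hS
  obtain ⟨q, hq⟩ : ∃ q, q = Fintype.card F := ⟨_, rfl⟩
  rw [← hq] at hord
  have hq3 : 3 ≤ q := by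
    have := Fintype.one_lt_card (α := F)
    obtain ⟨m, hm⟩ := hodd
    omega
  obtain ⟨S, hSdef⟩ : ∃ S, S = stabSubgroup φ := ⟨_, rfl⟩
  obtain ⟨H, hHdef⟩ : ∃ H, H = inNSubgroup φ ⊓ Cfsg.Omega F ⇑Q := ⟨_, rfl⟩
  have hHM : H ≤ M := hHdef ▸ fun k hk => hM k hk.2 hk.1
  have hSM : S ⊓ M = S ⊓ H := le_antisymm
    (fun k hk => ⟨hk.1, hHdef ▸ ⟨hS k hk.2 (hSdef ▸ hk.1 : k ∈ stabSubgroup φ), hMΩ hk.2⟩⟩)
    (inf_le_inf_left _ hHM)
  have hr2 : 2 ≤ H.relIndex M := by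
    have h0 : H.relIndex M ≠ 0 := Subgroup.index_ne_zero_of_finite
    have h1 : H.relIndex M ≠ 1 := fun e => hgN (by
      have := Subgroup.relIndex_eq_one.1 e hg
      rw [hHdef] at this
      exact this.1)
    omega
  have hN : S.relIndex M = H.relIndex M * (q ^ 4 + 1) := by
    rw [← Subgroup.inf_relIndex_right S M, hSM, ← Subgroup.relIndex_mul_relIndex _ H M inf_le_right hHM,
      Subgroup.inf_relIndex_right, hSdef, hHdef, relIndex_stab φ hodd h2 hQ, hq, mul_comm]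
  -- the translations act freely away from the line
  have hU : uSubgroup φ ≤ M := by
    rintro _ ⟨w, rfl⟩
    exact hM _ (uIso_mem_omega φ h2 hQ w) (Or.inl (lin_uIso φ w))
  have hmod : q ^ 4 ∣ S.relIndex M - 1 := by
    obtain ⟨U, hUdef⟩ : ∃ U, U = (uSubgroup φ).subgroupOf M := ⟨_, rfl⟩
    have hUc : Nat.card U = q ^ 4 := by
      rw [hUdef, hq, ← card_uSubgroup φ, Nat.card_congr (Subgroup.subgroupOfEquivOfLe hU).toEquiv]
    letI := Fintype.ofFinite (M ⧸ S.subgroupOf M)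
    letI := Fintype.ofFinite U
    letI := Fintype.ofFinite (Quotient (MulAction.orbitRel U (M ⧸ S.subgroupOf M)))
    letI : ∀ b : M ⧸ S.subgroupOf M, Fintype (MulAction.stabilizer U b) := fun b => Fintype.ofFinite _
    have hmemU : ∀ u : M, u ∈ U → (u : Isom Q) ∈ uSubgroup φ := fun u hu => by
      rw [hUdef] at hu; exact hu
    have hfree : ∀ (u : U) (b : M ⧸ S.subgroupOf M), u • b = b → u ≠ 1 →
        b = QuotientGroup.mk 1 := by
      intro u b hb hu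
      induction b using QuotientGroup.induction_on with
      | _ k =>
      refine (QuotientGroup.eq.2 ?_).symm
      rw [inv_one, one_mul, Subgroup.mem_subgroupOf, hSdef]
      by_contra hk
      obtain ⟨w, hw⟩ : ((u : M) : Isom Q) ∈ uSubgroup φ := hmemU _ u.2
      have hw0 : w ≠ 0 := fun e => hu (Subtype.ext (Subtype.ext (by rw [← hw, e, uIso_zero]; rfl)))
      refine not_stab_conj φ h2 hS k.2 hk hw0 (hU ⟨w, rfl⟩) ?_
      have hb' : QuotientGroup.mk ((u : M) * k) = (QuotientGroup.mk k : M ⧸ S.subgroupOf M) := hb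
      rw [QuotientGroup.eq, Subgroup.mem_subgroupOf] at hb'
      have := (stabSubgroup φ).inv_mem (hSdef ▸ hb')
      rw [hw]
      show _ ∈ stabSubgroup φ
      simpa [mul_assoc] using this
    have hbase : ∀ u : U, u • (QuotientGroup.mk 1 : M ⧸ S.subgroupOf M) = QuotientGroup.mk 1 := fun u => by
      show QuotientGroup.mk ((u : M) * 1) = _
      rw [QuotientGroup.eq, Subgroup.mem_subgroupOf, hSdef]
      have : ((u : M) : Isom Q) ∈ uSubgroup φ := hmemU _ u.2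
      simpa using (stabSubgroup φ).inv_mem (uSubgroup_le φ this).1
    have hsum := MulAction.card_eq_sum_card_group_div_card_stabilizer U (M ⧸ S.subgroupOf M)
    obtain ⟨o₀, hbase₀⟩ : ∃ o₀, o₀ = (Quotient.mk'' (QuotientGroup.mk 1) :
        Quotient (MulAction.orbitRel U (M ⧸ S.subgroupOf M))) := ⟨_, rfl⟩
    rw [← Finset.add_sum_erase _ _ (Finset.mem_univ o₀)] at hsum
    have hfirst : Fintype.card U / Fintype.card (MulAction.stabilizer U o₀.out) = 1 := by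
      have hout : o₀.out = (QuotientGroup.mk 1 : M ⧸ S.subgroupOf M) := by
        obtain ⟨u, hu⟩ : o₀.out ∈ MulAction.orbit U (QuotientGroup.mk 1 : M ⧸ S.subgroupOf M) := by
          rw [← MulAction.orbitRel_apply]
          exact Quotient.eq''.1 (by rw [Quotient.out_eq', hbase₀])
        rw [← hu]; exact hbase u
      rw [← Nat.card_eq_fintype_card, ← Nat.card_eq_fintype_card, show
        MulAction.stabilizer U o₀.out = ⊤ from eq_top_iff.2 fun u _ => by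
          rw [MulAction.mem_stabilizer_iff, hout, hbase],
        Subgroup.card_top, Nat.div_self Nat.card_pos]
    rw [hfirst, ← Nat.card_eq_fintype_card] at hsum
    rw [Subgroup.relIndex, Subgroup.index, hsum, Nat.add_sub_cancel_left]
    refine Finset.dvd_sum fun o ho => ?_
    rw [← Nat.card_eq_fintype_card, ← Nat.card_eq_fintype_card, show
      MulAction.stabilizer U o.out = ⊥ from (Subgroup.eq_bot_iff_forall _).2 fun u hu => by
        by_contra hne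
        refine (Finset.mem_erase.1 ho).1 ?_
        rw [hbase₀, ← Quotient.out_eq' o, hfree u _ hu hne],
      Subgroup.card_bot, Nat.div_one, hUc]
  -- orders
  obtain ⟨P, hP⟩ : ∃ P, P = stabSubgroup φ ⊓ inNSubgroup φ := ⟨_, rfl⟩
  haveI : (Cfsg.Omega F ⇑Q).Normal := by rw [Cfsg.Omega]; infer_instance
  have hPΩ : Cfsg.Omega F ⇑Q ⊓ P = S ⊓ H := by rw [hP, hSdef, hHdef, inf_comm, inf_assoc]
  have h4 : (Cfsg.Omega F ⇑Q).relIndex P ∣ 4 := by
    rw [← Forms.index_omega_odd h2 hQ hn]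
    exact Subgroup.relIndex_dvd_index_of_normal _ _
  have hd1 : q ^ 4 * (q ^ 4 - 1) ∣ 4 * Nat.card (S ⊓ H : Subgroup (Isom Q)) := by
    rw [hq]
    refine (card_dvd_stab φ h2).trans ?_
    rw [← hP, ← card_inf_mul_relIndex (Cfsg.Omega F ⇑Q) P, hPΩ, mul_comm 4]
    exact mul_dvd_mul_left _ h4
  have hd2 : S.relIndex M * (q ^ 4 * (q ^ 4 - 1)) ∣ Nat.card (Isom Q) := by
    rw [← Subgroup.card_mul_index (Cfsg.Omega F ⇑Q), Forms.index_omega_odd h2 hQ hn]
    refine (mul_dvd_mul_left _ hd1).trans ?_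
    rw [mul_left_comm, mul_comm 4, mul_comm (S.relIndex M), ← hSM, card_inf_mul_relIndex]
    exact mul_dvd_mul_right (Subgroup.card_dvd_of_le hMΩ) 4
  have hodd2 : Odd q := hq ▸ hodd
  rw [hord] at hd2
  rw [hN] at hmod hd2
  refine no_small_index (x := q ^ 2) (r := H.relIndex M) (by nlinarith) hr2 ?_ ?_ ?_
  · have h1 : Nat.Coprime (H.relIndex M * (q ^ 4 + 1)) (q ^ 4) := by
      obtain ⟨m, hm⟩ := hmod
      have : H.relIndex M * (q ^ 4 + 1) = m * q ^ 4 + 1 := by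
        have : 1 ≤ H.relIndex M * (q ^ 4 + 1) := Nat.one_le_iff_ne_zero.2 (by positivity)
        rw [mul_comm m]
        omega
      rw [this, Nat.coprime_comm, add_comm, mul_comm m, Nat.coprime_add_mul_left_right]
      exact Nat.coprime_one_right _
    exact h1.coprime_mul_right.coprime_dvd_right (pow_dvd_pow q (by norm_num))
  · rwa [← pow_mul]
  · have e1 : H.relIndex M * ((q ^ 2) ^ 2 + 1) * ((q ^ 2) ^ 2 * ((q ^ 2) ^ 2 - 1)) =
        H.relIndex M * (q ^ 4 + 1) * (q ^ 4 * (q ^ 4 - 1)) := by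
      simp only [← pow_mul]
    have e2 : 2 * (q ^ 2) ^ 6 * ((q ^ 2) ^ 2 + 1) * ((q ^ 2 - 1) * ((q ^ 2) ^ 2 - 1) * ((q ^ 2) ^ 3 - 1)) =
        2 * q ^ 12 * (q ^ 4 + 1) * ((q ^ 2 - 1) * (q ^ 4 - 1) * (q ^ 6 - 1)) := by
      simp only [← pow_mul]
    rw [e1, e2]; exact hd2

end CfsgLib.OrthExtFour
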