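import Cfsg.Agent.OrthExtFour.Circle
import Cfsg.Agent.OrthMax.SingularPair

/-!
# `O₄(q²)` inside `O₈(q)`: one transvection gives all of `Ω`
-/

set_option autoImplicit false
set_option linter.unusedSectionVars false

namespace CfsgLib.OrthExtFour

open Matrix Module QuadraticAlgebra CfsgLib.Spinor CfsgLib.Forms CfsgLib.OrthMax

variable {F : Type*} [Field F] {δ : F} {ι : Type} [Fintype ι] [DecidableEq ι]
  {Q : QuadraticForm F (ι → F)} {Θ : Matrix ι ι F} (φ : Frame Q Θ δ)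

/-- Commuting or anticommuting with `θ`. -/
def InN (g : Isom Q) : Prop :=
  (∀ p, ap φ g (th δ • p) = th δ • ap φ g p) ∨ ∀ p, ap φ g (th δ • p) = -(th δ • ap φ g p)

theorem inN_mul_left {g h : Isom Q} (hg : ∀ p, ap φ g (th δ • p) = th δ • ap φ g p)
    (hh : ∀ p, ap φ h (th δ • p) = th δ • ap φ h p) (p : W4 δ) :
    ap φ (g * h) (th δ • p) = th δ • ap φ (g * h) p := by
  rw [ap_mul, ap_mul, hh, hg]

theorem lin_uIso (w : QK δ × QK δ) (p : W4 δ) : ap φ (uIso φ w) (th δ • p) = th δ • ap φ (uIso φ w) p := by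
  simp only [ap_uIso, uMap_apply, Prod.smul_fst, Prod.smul_snd, Prod.smul_mk, bw_smul_right, smul_add,
    smul_eq_mul, mul_sub]
  ext <;> simp <;> ring

theorem lin_uIso' (w : QK δ × QK δ) (p : W4 δ) :
    ap φ (uIso' φ w) (th δ • p) = th δ • ap φ (uIso' φ w) p := by
  simp only [ap_uIso', Prod.smul_fst, Prod.smul_snd, Prod.smul_mk, bw_smul_right, smul_add, smul_eq_mul,
    mul_sub]
  ext <;> simp <;> ring

section Field

variable [Fact (∀ r : F, r ^ 2 ≠ δ + 0 * r)]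

theorem lin_dIso (l : (QK δ)ˣ) (p : W4 δ) : ap φ (dIso φ l) (th δ • p) = th δ • ap φ (dIso φ l) p := by
  simp only [ap_dIso, Prod.smul_fst, Prod.smul_snd, Prod.smul_mk, smul_eq_mul, mul_left_comm]

theorem lin_rotIso (cs : QK δ × QK δ) (h : Circle φ.c cs) (p : W4 δ) :
    ap φ (rotIso φ cs h) (th δ • p) = th δ • ap φ (rotIso φ cs h) p := by
  simp only [ap_rotIso, rotMap, LinearMap.coe_mk, AddHom.coe_mk, Prod.smul_fst, Prod.smul_snd,
    Prod.smul_mk, smul_eq_mul, mul_add, mul_sub, mul_left_comm]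

end Field

variable [Fintype F] [Fact (∀ r : F, r ^ 2 ≠ δ + 0 * r)] {M : Subgroup (Isom Q)}

theorem dIso_sq_mem_omega (h2 : (2 : F) ≠ 0) (hQ : (QuadraticMap.polarBilin Q).Nondegenerate)
    (l : (QK δ)ˣ) : dIso φ (l * l) ∈ Cfsg.Omega F ⇑Q := by
  rw [dIso_mul, ← sq]
  exact PrimeGraphBC.sq_mem_omega h2 hQ _

theorem rootMem_of_eq {u u' w w' : ι → F} (hu : u = u') (hw : w = w') (h : RootMem M u w) :
    RootMem M u' w' := hu ▸ hw ▸ h

theorem exists_norm_eq (hodd : Odd (Fintype.card F)) (r : F) : ∃ m : QK δ, QuadraticAlgebra.norm m = r := by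
  have hδ : -δ ≠ 0 := neg_ne_zero.2 fun h =>
    (‹Fact (∀ r : F, r ^ 2 ≠ δ + 0 * r)›).out 0 (by simp [h])
  obtain ⟨x, y, hxy⟩ := MaxSub.exists_sq_add_sq hodd one_ne_zero hδ r
  refine ⟨⟨x, y⟩, ?_⟩
  rw [QuadraticAlgebra.norm_def]
  linear_combination hxy

theorem delta_ne : δ ≠ 0 := fun h =>
  (‹Fact (∀ r : F, r ^ 2 ≠ δ + 0 * r)›).out 0 (by simp [h])

theorem tIso_add (s t : F) : tIso φ (s + t) = tIso φ s * tIso φ t :=
  eq_of_ap φ fun p => by
    rw [ap_mul, ap_tIso, ap_tIso, ap_tIso]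
    simp only [Prod.mk.injEq, and_true]
    rw [add_assoc, ← add_smul]
    congr 2
    ring

theorem dIso_conj_tIso (l : (QK δ)ˣ) (t : F) :
    dIso φ l * tIso φ t = tIso φ (t * QuadraticAlgebra.norm (l : QK δ)) * dIso φ l :=
  eq_of_ap φ fun p => by
    rw [ap_mul, ap_mul, ap_tIso, ap_dIso, ap_dIso, ap_tIso]
    simp only [Prod.mk.injEq, and_true]
    rw [mul_add]
    congr 1
    have hl : (l : QK δ) * ((l⁻¹ : (QK δ)ˣ) : QK δ) = 1 := l.mul_inv
    rw [star_mul', ← mul_assoc (2 : F) t, mul_smul (2 * t),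
      Algebra.smul_def (QuadraticAlgebra.norm (l : QK δ)), algebraMap_norm_eq_mul_star, mul_smul_comm]
    congr 1
    have hs : star (l : QK δ) * star ((l⁻¹ : (QK δ)ˣ) : QK δ) = 1 := by rw [← star_mul', hl, star_one]
    linear_combination -((l : QK δ) * th δ * star p.2.1) * hs

theorem tIso_zero : tIso φ (0 : F) = 1 :=
  eq_of_ap φ fun p => by rw [ap_tIso, ap_one]; simp

/-- Every transvection at the first vector from one. -/
theorem mem_tIso (hodd : Odd (Fintype.card F)) (h2 : (2 : F) ≠ 0)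
    (hQ : (QuadraticMap.polarBilin Q).Nondegenerate)
    (hM : ∀ g ∈ Cfsg.Omega F ⇑Q, InN φ g → g ∈ M) {t : F} (ht : t ≠ 0) (h : tIso φ t ∈ M) (s : F) :
    tIso φ s ∈ M := by
  have hsq : ∀ r : F, tIso φ (t * r ^ 2) ∈ M := fun r => by
    rcases eq_or_ne r 0 with rfl | hr
    · rw [zero_pow two_ne_zero, mul_zero, tIso_zero]; exact M.one_mem
    obtain ⟨m, hm⟩ := exists_norm_eq (δ := δ) hodd r
    have hm0 : m ≠ 0 := fun h0 => hr (by rw [← hm, h0, QuadraticAlgebra.norm_zero])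
    obtain ⟨l, hl⟩ : ∃ l : (QK δ)ˣ, l = Units.mk0 m hm0 * Units.mk0 m hm0 := ⟨_, rfl⟩
    have hd : dIso φ l ∈ M := hM _ (hl ▸ dIso_sq_mem_omega φ h2 hQ _) (Or.inl (lin_dIso φ l))
    have hn : QuadraticAlgebra.norm (l : QK δ) = r ^ 2 := by
      rw [hl, Units.val_mul, Units.val_mk0, map_mul, hm, sq]
    have := dIso_conj_tIso φ l t
    rw [hn, ← mul_inv_eq_iff_eq_mul] at this
    rw [← this]
    exact mul_mem (mul_mem hd h) (inv_mem hd)
  obtain ⟨a, b, hab⟩ : ∃ a b : F, s = t * a ^ 2 + -(t * b ^ 2) :=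
    ⟨(s / t + 1) / 2, (s / t - 1) / 2, by field_simp; ring⟩
  have hneg : tIso φ (-(t * b ^ 2)) = (tIso φ (t * b ^ 2))⁻¹ :=
    eq_inv_of_mul_eq_one_left (by rw [← tIso_add, neg_add_cancel, tIso_zero])
  rw [hab, tIso_add, hneg]
  exact mul_mem (hsq a) (inv_mem (hsq b))

theorem ap_swapIso {w : QK δ × QK δ} (hw : qw φ.c w = -1) (a b : QK δ) :
    ap φ (uIso φ w * uIso' φ (-w) * uIso φ w) (a, b, 0) = (b, a, 0) := by
  have hz : bw φ.c w 0 = 0 := by simp [bw]
  have h1 : ap φ (uIso φ w) (a, b, 0) = (a + b, b, b • w) := by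
    rw [ap_uIso, uMap_apply]
    simp [hz, hw]
  have h2 : ap φ (uIso' φ (-w)) (a + b, b, b • w) = (a + b, a, -(a • w)) := by
    rw [ap_uIso']
    refine Prod.ext rfl (Prod.ext ?_ ?_) <;> simp only
    · rw [bw_smul_right, bw_comm, show (-w : QK δ × QK δ) = (-1 : QK δ) • w by rw [neg_one_smul],
        bw_smul_right, bw_self, qw_smul, hw]
      ring
    · rw [smul_neg, ← sub_eq_add_neg, add_smul, sub_add_cancel_right]
  rw [ap_mul, ap_mul, h1, h2, ap_uIso, uMap_apply]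
  refine Prod.ext ?_ (Prod.ext rfl ?_) <;> simp only
  · rw [← neg_smul, bw_smul_right, bw_self, hw]; ring
  · exact neg_add_cancel _

theorem rootMem_tv {t : F} (h : tIso φ t ∈ M) : RootMem M (φ.e (u0 δ)) (φ.e (tv δ t)) :=
  RootMem.of_iso (e_quad_u0 φ) (polar_u0_tv φ t) h

theorem rootMem_move {u w u' w' : W4 δ} {k : Isom Q} (hk : k ∈ M) (hu : ap φ k u = u')
    (hw : ap φ k w = w') (h : RootMem M (φ.e u) (φ.e w)) : RootMem M (φ.e u') (φ.e w') :=
  rootMem_of_eq (by rw [← hu, e_ap]) (by rw [← hw, e_ap]) (h.conj hk)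

theorem rootMem_cast {u w w' : W4 δ} (hw : w = w') (h : RootMem M (φ.e u) (φ.e w)) :
    RootMem M (φ.e u) (φ.e w') := hw ▸ h

theorem qw_theta_smul (X : QK δ × QK δ) : qw φ.c (th δ • X) = δ • qw φ.c X := by
  rw [qw_smul]; ext <;> simp [sq]

/-- **One transvection of `(u, θ u)` and `N ∩ Ω` generate `Ω`.** -/
theorem omega_le_of_tIso (hodd : Odd (Fintype.card F)) (h2 : (2 : F) ≠ 0)
    (hQ : (QuadraticMap.polarBilin Q).Nondegenerate) (hn : 5 ≤ Fintype.card ι)
    (hM : ∀ g ∈ Cfsg.Omega F ⇑Q, InN φ g → g ∈ M) {t₀ : F} (ht₀ : t₀ ≠ 0) (h : tIso φ t₀ ∈ M) :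
    Cfsg.Omega F ⇑Q ≤ M := by
  have hδ : δ ≠ 0 := delta_ne
  have hT : ∀ t, RootMem M (φ.e (u0 δ)) (φ.e (tv δ t)) := fun t =>
    rootMem_tv φ (mem_tIso φ hodd h2 hQ hM ht₀ h t)
  have hU : ∀ w, uIso φ w ∈ M := fun w => hM _ (uIso_mem_omega φ h2 hQ w) (Or.inl (lin_uIso φ w))
  have hU' : ∀ w, uIso' φ w ∈ M := fun w => hM _ (uIso'_mem_omega φ h2 hQ w) (Or.inl (lin_uIso' φ w))
  -- transvections at the second vector
  obtain ⟨wn, hwn⟩ := exists_qw_eq hodd φ.aniso (-1)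
  have hT' : ∀ t, RootMem M (φ.e (v0 δ)) (φ.e (0, t • th δ, 0)) := fun t =>
    rootMem_move φ (mul_mem (mul_mem (hU wn) (hU' (-wn))) (hU wn)) (ap_swapIso φ hwn 1 0)
      (ap_swapIso φ hwn (t • th δ) 0) (hT t)
  have hk1 : ∀ t, tIso φ t ∈ M := mem_tIso φ hodd h2 hQ hM ht₀ h
  -- a second isotropic line in `X₀^⊥`
  have hS : RootMem M (φ.e (δ⁻¹ • th δ, 1, 0)) (φ.e (-1, th δ, 0)) := by
    refine rootMem_move φ (hk1 (2 * δ)⁻¹) ?_ ?_ (rootMem_cast φ (w' := (0, th δ, 0)) (by simp) (hT' 1)) <;>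
      rw [ap_tIso] <;> refine Prod.ext ?_ rfl <;> ext <;> simp <;> field_simp
  have key : ∀ w, qw φ.c w = th δ → ∀ c : F,
      RootMem M (φ.e (u0 δ)) (φ.e (0, 0, c • th δ • w)) := by
    intro w hw c
    obtain ⟨z, hz⟩ : ∃ z : W4 δ, z = (1, -th δ, w) := ⟨_, rfl⟩
    obtain ⟨s0, hs0⟩ : ∃ s0 : W4 δ, s0 = (δ⁻¹ • th δ, 1, 0) := ⟨_, rfl⟩
    obtain ⟨r0, hr0⟩ : ∃ r0 : W4 δ, r0 = (-1, th δ, 0) := ⟨_, rfl⟩
    rw [← hs0, ← hr0] at hS
    obtain ⟨d, hd⟩ : ∃ d : F, d = -(c / 4) := ⟨_, rfl⟩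
    have hthz : RootMem M (φ.e z) (φ.e (d • th δ • z)) := by
      refine rootMem_move φ (hU' w) ?_ ?_ (hT d) <;>
        simp only [ap_uIso', hz, bw_zero_right, hw, Prod.smul_mk, sub_zero] <;>
        refine Prod.ext ?_ (Prod.ext ?_ ?_) <;> (ext <;> simp) <;> ring
    have hqz : Q (φ.e z) = 0 := by simp [φ.quad, hz, q4, hw]
    have hqs : Q (φ.e s0) = 0 := by simp [φ.quad, hs0, q4]
    have hqr : Q (φ.e r0) = 0 := by simp [φ.quad, hr0, q4]
    have hrs : QuadraticMap.polar (⇑Q) (φ.e r0) (φ.e s0) = 0 := by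
      simp [φ.polar, hr0, hs0, b4, hδ]
    have hsr : QuadraticMap.polar (⇑Q) (φ.e s0) (φ.e r0) = 0 := by
      rw [QuadraticMap.polar_comm, hrs]
    have hwz : QuadraticMap.polar (⇑Q) (φ.e z) (φ.e (d • th δ • z)) = 0 := by
      simp [φ.polar, hz, b4, bw_smulF_right, bw_smul_right, bw_self, hw]
      exact Or.inr (by ring)
    have h1 := (hS.swap hqs hqr).neg hqr (by rw [QuadraticMap.polar_neg_right, hrs, neg_zero])
    rw [neg_neg] at h1
    have happ := ap_eich φ (mat_eichIso _ _ hqz hwz)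
    have hQw : Q (φ.e (d • th δ • z)) = 0 := by
      simp [φ.quad, hz, q4, qw_smulF, qw_smul, hw, pow_two]
      try exact Or.inr (by ring)
    have h3 : RootMem M (φ.e s0) (φ.e ((-4 * d * δ) • z)) := by
      refine rootMem_diff hqr hqs hrs h1 (hthz.iso hqz hwz) ?_ ?_
      · rw [← e_ap, happ, hQw]
        congr 1
        ext <;> simp [hz, hs0, b4, hδ] <;> first | (ring_nf; done) | (left; ring)
      · rw [← e_ap, happ, hQw, ← map_add]
        congr 1
        ext <;> simp [hz, hr0, b4, hδ] <;> first | (ring_nf; done) | (left; ring)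
    have h4 := h3.swap hqs (by rw [map_smul, QuadraticMap.map_smul, hqz, smul_zero])
    rw [map_smul, rootMem_smul_left, ← map_neg, ← map_smul] at h4
    have h5 : RootMem M (φ.e (u0 δ)) (φ.e ((4 * d * δ) • (δ⁻¹ • th δ, 0, -((δ⁻¹ • th δ) • w)))) := by
      refine rootMem_move φ (hU' (-w)) ?_ ?_ h4
      · rw [ap_uIso', hz]
        refine Prod.ext rfl (Prod.ext ?_ ?_) <;> simp [bw_neg_left, bw_self, qw_neg, hw]
        ext <;> simp <;> ring
      · rw [show (4 * d * δ : F) = -(-4 * d * δ) by ring, neg_smul, ← smul_neg, map_smul, ap_uIso', hs0]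
        congr 1
        refine Prod.ext rfl (Prod.ext ?_ ?_)
        · simp [qw_neg, hw]
          ext <;> simp [hδ]
        · simp
          ext <;> simp [hδ]
    have h6 := h5.add (e_quad_u0 φ) (by simp [φ.polar, b4]) (polar_u0_tv φ _) (hT (-(4 * d)))
    rw [← map_add] at h6
    refine rootMem_cast φ ?_ h6
    have h40 : (4 : F) ≠ 0 := by
      rw [show (4 : F) = 2 * 2 by norm_num]; exact mul_ne_zero h2 h2
    rw [hd]
    ext <;> simp [hδ] <;> field_simp <;> ring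
  -- the whole anisotropic part
  have hW : ∀ X, ∀ c : F, RootMem M (φ.e (u0 δ)) (φ.e (0, 0, c • X)) := by
    intro X
    have hX : X ∈ Submodule.span F {Y | qw φ.c Y = δ • th δ} := by
      rw [span_sphere hodd h2 φ.aniso (smul_ne_zero hδ (fun h0 => one_ne_zero (α := F)
        (congrArg QuadraticAlgebra.im h0)))]
      exact Submodule.mem_top
    induction hX using Submodule.span_induction with
    | mem Y hY =>
      intro c
      have hw : qw φ.c (δ⁻¹ • th δ • Y) = th δ := by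
        rw [qw_smulF, qw_theta_smul, hY, smul_smul, smul_smul]
        convert one_smul F (th δ) using 2
        field_simp
      refine rootMem_cast φ ?_ (key _ hw c)
      ext <;> simp <;> field_simp <;> tauto
    | zero => intro c; exact rootMem_cast φ (w := 0) (by ext <;> simp) (by rw [map_zero]; exact RootMem.zero)
    | add Y Z _ _ hY hZ =>
      intro c
      refine rootMem_cast φ (w := (0, 0, c • Y) + (0, 0, c • Z)) (by simp) ?_
      rw [map_add]
      exact (hY c).add (e_quad_u0 φ) (by simp [φ.polar, b4]) (by simp [φ.polar, b4]) (hZ c)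
    | smul t Y _ hY => intro c; rw [smul_smul]; exact hY _
  have hP : ∀ (a : QK δ) (X : QK δ × QK δ), RootMem M (φ.e (u0 δ)) (φ.e (a, 0, X)) := by
    intro a X
    have hr : RootMem M (φ.e (u0 δ)) (a.re • φ.e (u0 δ)) := fun g hg => by
      rw [Forms4.eich_smul_self Q (e_quad_u0 φ)] at hg
      rw [show g = 1 from mat_ext Q (hg.trans (mat_one Q).symm)]
      exact M.one_mem
    have h' := (hr.add (e_quad_u0 φ)
      (by rw [QuadraticMap.polar_smul_right, QuadraticMap.polar_self, e_quad_u0, smul_zero, smul_zero])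
      (polar_u0_tv φ _) (hT a.im)).add (e_quad_u0 φ)
      (by rw [QuadraticMap.polar_add_right, polar_u0_tv, QuadraticMap.polar_smul_right,
        QuadraticMap.polar_self, e_quad_u0, smul_zero, smul_zero, add_zero])
      (by simp [φ.polar, b4]) (hW X 1)
    rw [← map_smul, ← map_add, ← map_add] at h'
    refine rootMem_cast φ ?_ h'
    ext <;> simp
  -- a vector of the opposite line
  obtain ⟨b, hb⟩ : ∃ b : W4 δ, b = (0, δ⁻¹ • th δ, 0) := ⟨_, rfl⟩
  have hqb : Q (φ.e b) = 0 := by simp [φ.quad, hb, q4]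
  have hvv : Q (φ.e (v0 δ)) = 0 := by simp [φ.quad, q4]
  have hvt : QuadraticMap.polar (⇑Q) (φ.e (v0 δ)) (φ.e (0, (2 * δ)⁻¹ • th δ, 0)) = 0 := by
    simp [φ.polar, b4]
  have hk2 := (hT' (2 * δ)⁻¹).iso hvv hvt
  have hbX : ∀ X, RootMem M (φ.e b) (φ.e (0, 0, X)) := fun X => by
    refine rootMem_move φ (mul_mem (mul_mem (hk1 2⁻¹) hk2) (hk1 2⁻¹)) ?_ ?_ (hP 0 X) <;>
      simp only [ap_mul, ap_tIso, ap_eich φ (mat_eichIso _ _ hvv hvt), φ.quad] <;>
      ext <;> simp [hb, b4, q4] <;> field_simp <;> ring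
  obtain ⟨w1, hw1⟩ := exists_qw_eq hodd φ.aniso 1
  have hbw : QuadraticMap.polar (⇑Q) (φ.e b) (φ.e (0, 0, w1)) = 0 := by simp [φ.polar, hb, b4]
  have hb' : ∀ c : F, RootMem M (φ.e (u0 δ)) (φ.e (c • b)) := fun c => by
    have h' := rootMem_move φ (u' := u0 δ) (w' := (0, 0, (-(c / 4)) • w1) + c • b)
      ((hbX w1).iso hqb hbw) ?_ ?_ (hP 0 ((-(c / 4)) • w1))
    · have h'' := h'.add (e_quad_u0 φ) (by simp [φ.polar, hb, b4]) (by simp [φ.polar, b4]) (hP 0 ((c / 4) • w1))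
      rw [← map_add] at h''
      refine rootMem_cast φ ?_ h''
      ext <;> simp [hb] <;> ring
    · rw [ap_eich φ (mat_eichIso _ _ hqb hbw)]
      ext <;> simp [hb, b4]
    · rw [ap_eich φ (mat_eichIso _ _ hqb hbw)]
      have h40 : (4 : F) ≠ 0 := by
        rw [show (4 : F) = 2 * 2 by norm_num]; exact mul_ne_zero h2 h2
      ext <;> simp [hb, b4, bw_neg_right, bw_smulF_right, bw_self, hw1] <;> field_simp <;>
        first | (ring_nf; done) | tauto | (left; ring)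
  have hfull : Full M (φ.e (u0 δ)) := by
    intro v hv
    obtain ⟨p, rfl⟩ := φ.e.surjective v
    rw [φ.polar] at hv
    have hre : p.2.1.re = 0 := by simpa [b4, h2] using hv
    have h' := (hP p.1 p.2.2).add (e_quad_u0 φ) (by simp [φ.polar, b4]) (by simp [φ.polar, b4, hb])
      (hb' (δ * p.2.1.im))
    rw [← map_add] at h'
    refine rootMem_cast φ ?_ h'
    ext <;> simp [hb, hre] <;> field_simp
  obtain ⟨w, hw⟩ := exists_qw_eq hodd φ.aniso 1
  have hfull' := hfull.conj (hU' w)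
  rw [← e_ap, ap_uIso'] at hfull'
  refine omega_le_of_full_pair hQ hn (e_quad_u0 φ) ?_ ?_ hfull hfull'
  · simp [φ.quad, q4, hw]
  · simp [φ.polar, b4, hw, h2]

end CfsgLib.OrthExtFour
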