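import Cfsg.Agent.OrthExtFour.Circle
import Cfsg.Agent.LinearElements.OrthType

/-!
# `O₄(q²)` inside `O₈(q)`: existence of frames; the order of `O₈⁻(q)`
-/

set_option autoImplicit false
set_option linter.unusedSectionVars false

namespace CfsgLib.OrthExtFour

open Matrix Module QuadraticAlgebra CfsgLib.Spinor CfsgLib.Forms CfsgLib.OrthMax

variable {F : Type*} [Field F] {ι : Type} [Fintype ι] [DecidableEq ι]
  (Q : QuadraticForm F (ι → F)) (Θ : Matrix ι ι F) (δ : F)

/-- The action of the quadratic extension. -/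
def km (k : QK δ) (x : ι → F) : ι → F := k.re • x + k.im • (Θ *ᵥ x)

/-- The `K`-valued bilinear form. -/
noncomputable def bb (x y : ι → F) : QK δ :=
  ⟨QuadraticMap.polar (⇑Q) x y / 2, QuadraticMap.polar (⇑Q) (Θ *ᵥ x) y / (2 * δ)⟩

theorem bb_add_left (x x' y : ι → F) : bb Q Θ δ (x + x') y = bb Q Θ δ x y + bb Q Θ δ x' y := by
  ext <;> simp [bb, mulVec_add, QuadraticMap.polar_add_left, add_div]

theorem bb_smul_left (t : F) (x y : ι → F) : bb Q Θ δ (t • x) y = t • bb Q Θ δ x y := by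
  ext <;> simp [bb, mulVec_smul, QuadraticMap.polar_smul_left, mul_div_assoc]

variable {Q Θ δ}

theorem bb_comm (hsa : ∀ x y, QuadraticMap.polar (⇑Q) (Θ *ᵥ x) y = QuadraticMap.polar (⇑Q) x (Θ *ᵥ y))
    (x y : ι → F) : bb Q Θ δ x y = bb Q Θ δ y x := by
  ext <;> simp only [bb]
  · rw [QuadraticMap.polar_comm]
  · rw [hsa, QuadraticMap.polar_comm]

theorem theta_sq_mulVec (hΘ : Θ * Θ = δ • (1 : Matrix ι ι F)) (x : ι → F) :
    Θ *ᵥ (Θ *ᵥ x) = δ • x := by
  rw [mulVec_mulVec, hΘ, smul_mulVec, one_mulVec]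

theorem theta_km (hΘ : Θ * Θ = δ • (1 : Matrix ι ι F)) (k : QK δ) (x : ι → F) :
    Θ *ᵥ km Θ δ k x = km Θ δ (th δ * k) x := by
  simp only [km, mulVec_add, mulVec_smul, theta_sq_mulVec hΘ, smul_smul, re_mul, im_mul, zero_mul,
    zero_add, add_zero, one_mul, mul_one]
  module

theorem bb_km_left (hΘ : Θ * Θ = δ • (1 : Matrix ι ι F)) (h2 : (2 : F) ≠ 0) (hδ : δ ≠ 0)
    (k : QK δ) (x y : ι → F) : bb Q Θ δ (km Θ δ k x) y = k * bb Q Θ δ x y := by
  rw [km, bb_add_left, bb_smul_left, bb_smul_left]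
  ext <;> simp [bb, theta_sq_mulVec hΘ, QuadraticMap.polar_smul_left] <;> field_simp
  first | simp | ring

theorem re_bb_self (h2 : (2 : F) ≠ 0) (x : ι → F) : (bb Q Θ δ x x).re = Q x := by
  show QuadraticMap.polar (⇑Q) x x / 2 = Q x
  rw [QuadraticMap.polar_self]
  field_simp
  simp [mul_comm]

theorem eq_zero_of_bb (h2 : (2 : F) ≠ 0) (hQ : (QuadraticMap.polarBilin Q).Nondegenerate) {x : ι → F}
    (h : ∀ y, bb Q Θ δ x y = 0) : x = 0 :=
  hQ.1 x fun y => by
    have := congrArg QuadraticAlgebra.re (h y)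
    simpa [bb, h2] using this

variable [Fintype F] [Fact (∀ r : F, r ^ 2 ≠ δ + 0 * r)]

/-- Orthogonal anisotropic families. -/
theorem exists_family (hΘ : Θ * Θ = δ • (1 : Matrix ι ι F)) (hι : Fintype.card ι = 8) (h2 : (2 : F) ≠ 0)
    (hδ : δ ≠ 0) (hQ : (QuadraticMap.polarBilin Q).Nondegenerate)
    (hsa : ∀ x y, QuadraticMap.polar (⇑Q) (Θ *ᵥ x) y = QuadraticMap.polar (⇑Q) x (Θ *ᵥ y)) :
    ∀ n, n ≤ 4 → ∃ w : Fin n → ι → F,
      (∀ i, bb Q Θ δ (w i) (w i) ≠ 0) ∧ ∀ i j, i ≠ j → bb Q Θ δ (w i) (w j) = 0 := by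
  intro n
  induction n with
  | zero => exact fun _ => ⟨Fin.elim0, fun i => i.elim0, fun i => i.elim0⟩
  | succ n ih =>
    intro hn
    obtain ⟨w, hw, hworth⟩ := ih (by omega)
    suffices ∃ z, bb Q Θ δ z z ≠ 0 ∧ ∀ i, bb Q Θ δ z (w i) = 0 by
      obtain ⟨z, hz, hzw⟩ := this
      refine ⟨Fin.snoc w z, fun i => ?_, fun i j hij => ?_⟩
      · induction i using Fin.lastCases with
        | last => simpa using hz
        | cast i => simpa using hw i
      · induction i using Fin.lastCases with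
        | last =>
          induction j using Fin.lastCases with
          | last => exact absurd rfl hij
          | cast j => simpa using hzw j
        | cast i =>
          induction j using Fin.lastCases with
          | last => simpa [bb_comm hsa (w i)] using hzw i
          | cast j => simpa using hworth i j fun e => hij (by rw [e])
    by_contra! hall
    have hall' : ∀ z, (∀ i, bb Q Θ δ z (w i) = 0) → bb Q Θ δ z z = 0 := fun z hz => by
      by_contra hne
      obtain ⟨i, hi⟩ := hall z hne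
      exact hi (hz i)
    obtain ⟨P, hP⟩ : ∃ P : (ι → F) → ι → F, P = fun x =>
      x - ∑ i, km Θ δ (bb Q Θ δ x (w i) / bb Q Θ δ (w i) (w i)) (w i) := ⟨_, rfl⟩
    let R : (ι → F) → (ι → F) →ₗ[F] QK δ := fun y =>
      { toFun := fun x => bb Q Θ δ x y
        map_add' := fun x x' => bb_add_left Q Θ δ x x' y
        map_smul' := fun t x => bb_smul_left Q Θ δ t x y }
    have hPw : ∀ x i, bb Q Θ δ (P x) (w i) = 0 := fun x i => by
      show R (w i) (P x) = 0
      rw [hP]
      simp only [map_sub, map_sum]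
      show bb Q Θ δ x (w i) - ∑ j, bb Q Θ δ (km Θ δ _ (w j)) (w i) = 0
      simp only [bb_km_left hΘ h2 hδ]
      rw [Finset.sum_eq_single i (fun j _ hj => by rw [hworth j i hj, mul_zero]) (by simp),
        div_mul_cancel₀ _ (hw i), sub_self]
    have hP0 : ∀ x, P x = 0 := fun x => by
      refine eq_zero_of_bb (Q := Q) (Θ := Θ) (δ := δ) h2 hQ fun y => ?_
      have e1 := hall' (P x) (hPw x)
      have e2 := hall' (P y) (hPw y)
      have e3 := hall' (P x + P y) fun i => by rw [bb_add_left, hPw, hPw, add_zero]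
      rw [bb_add_left, bb_comm hsa (P x) (P x + P y), bb_comm hsa (P y) (P x + P y), bb_add_left,
        bb_add_left, e1, e2, bb_comm hsa (P y) (P x)] at e3
      have e4 : bb Q Θ δ (P x) (P y) = 0 :=
        (mul_eq_zero.1 (by linear_combination e3 : (2 : QK δ) * bb Q Θ δ (P x) (P y) = 0)).resolve_left
          (two_ne_zero_QK h2)
      have hy : y = P y + ∑ i, km Θ δ (bb Q Θ δ y (w i) / bb Q Θ δ (w i) (w i)) (w i) := by
        rw [hP]; simp
      rw [bb_comm hsa, hy, bb_add_left, bb_comm hsa (P y), e4, zero_add]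
      show R (P x) _ = 0
      rw [map_sum]
      refine Finset.sum_eq_zero fun i _ => ?_
      show bb Q Θ δ (km Θ δ _ (w i)) (P x) = 0
      rw [bb_km_left hΘ h2 hδ, bb_comm hsa (w i) (P x), hPw, mul_zero]
    have hsurj : Function.Surjective fun f : Fin n → QK δ => ∑ i, km Θ δ (f i) (w i) := fun x =>
      ⟨fun i => bb Q Θ δ x (w i) / bb Q Θ δ (w i) (w i), by
        have := hP0 x
        rw [hP] at this
        exact (sub_eq_zero.1 this).symm⟩
    have hle := Fintype.card_le_of_surjective _ hsurj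
    rw [Fintype.card_fun, Fintype.card_fun, card_QK, Fintype.card_fin, hι, ← pow_mul] at hle
    exact absurd hle (not_le.2 (Nat.pow_lt_pow_right Fintype.one_lt_card (by omega)))

/-- **Existence of a frame.** -/
theorem exists_frame (hodd : Odd (Fintype.card F)) (hΘ : Θ * Θ = δ • (1 : Matrix ι ι F))
    (hι : Fintype.card ι = 8) (h2 : (2 : F) ≠ 0) (hδ : δ ≠ 0)
    (hQ : (QuadraticMap.polarBilin Q).Nondegenerate)
    (hsa : ∀ x y, QuadraticMap.polar (⇑Q) (Θ *ᵥ x) y = QuadraticMap.polar (⇑Q) x (Θ *ᵥ y))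
    (hminus : ∀ U : Submodule F (ι → F), (∀ x ∈ U, Q x = 0) → finrank F U ≠ 4) :
    Nonempty (Frame Q Θ δ) := by
  obtain ⟨w, hw, horth⟩ := exists_family hΘ hι h2 hδ hQ hsa 4 le_rfl
  obtain ⟨d, hd⟩ : ∃ d : Fin 4 → QK δ, d = fun i => bb Q Θ δ (w i) (w i) := ⟨_, rfl⟩
  have hd0 : ∀ i, d i ≠ 0 := fun i => hd ▸ hw i
  obtain ⟨α, β, hαβ⟩ := MaxSub.exists_sq_add_sq (odd_card_QK (δ := δ) hodd) (hd0 0) (hd0 1) (-d 2)
  have h2' : (2 : QK δ) ≠ 0 := two_ne_zero_QK h2
  let L : (Fin 4 → QK δ) →ₗ[F] ι → F :=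
    { toFun := fun f => ∑ i, km Θ δ (f i) (w i)
      map_add' := fun f g => by
        rw [← Finset.sum_add_distrib]
        exact Finset.sum_congr rfl fun i _ => by
          simp only [km, Pi.add_apply, re_add, im_add]; module
      map_smul' := fun t f => by
        rw [Finset.smul_sum]
        exact Finset.sum_congr rfl fun i _ => by
          simp only [km, Pi.smul_apply, RingHom.id_apply, re_smul, im_smul]; module }
  have hLbb : ∀ f g, bb Q Θ δ (L f) (L g) = ∑ i, f i * g i * d i := fun f g => by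
    have hl : ∀ (z : ι → F) (h : Fin 4 → QK δ), bb Q Θ δ (L h) z = ∑ i, h i * bb Q Θ δ (w i) z :=
      fun z h => by
        let R : (ι → F) →ₗ[F] QK δ :=
          { toFun := fun x => bb Q Θ δ x z
            map_add' := fun x x' => bb_add_left Q Θ δ x x' z
            map_smul' := fun t x => bb_smul_left Q Θ δ t x z }
        show R (∑ i, km Θ δ (h i) (w i)) = _
        rw [map_sum]
        exact Finset.sum_congr rfl fun i _ => bb_km_left hΘ h2 hδ _ _ _
    rw [hl]
    refine Finset.sum_congr rfl fun i _ => ?_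
    rw [bb_comm hsa, hl, Finset.sum_eq_single i (fun j _ hj => by rw [horth j i hj, mul_zero]) (by simp), hd]
    ring
  -- the coordinate change
  let C : W4 δ →ₗ[F] Fin 4 → QK δ :=
    { toFun := fun p =>
        ![(p.1 - p.2.1 / (2 * d 2)) * α - p.2.2.1 * (d 1 * β),
          (p.1 - p.2.1 / (2 * d 2)) * β + p.2.2.1 * (d 0 * α),
          p.1 + p.2.1 / (2 * d 2), p.2.2.2]
      map_add' := fun p p' => by
        funext i; fin_cases i <;> simp <;> ring
      map_smul' := fun t p => by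
        funext i; fin_cases i <;>
          simp [Algebra.smul_def, mul_sub, mul_add, mul_assoc, mul_div_assoc, sub_mul, add_mul] }
  obtain ⟨c, hc⟩ : ∃ c : QK δ × QK δ, c = (-(d 0 * d 1 * d 2) / 2, d 3 / 2) := ⟨_, rfl⟩
  have hform : ∀ p p', bb Q Θ δ (L (C p)) (L (C p')) = b4 c p p' := fun p p' => by
    have h22 : d 2 ≠ 0 := hd0 2
    rw [hLbb, Fin.sum_univ_four, hc]
    simp [C, b4, bw]
    field_simp
    linear_combination ((2 * d 2 * p.1 - p.2.1) * (2 * d 2 * p'.1 - p'.2.1) +
      4 * d 0 * d 1 * d 2 ^ 2 * p.2.2.1 * p'.2.2.1) * hαβ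
  have hc1 : c.1 ≠ 0 := by
    rw [hc]; simp [hd0, h2']
  have hc2 : c.2 ≠ 0 := by
    rw [hc]; simp [hd0, h2']
  have hinj : Function.Injective (L.comp C) := by
    rw [← LinearMap.ker_eq_bot, Submodule.eq_bot_iff]
    intro p hp
    have hb : ∀ p', b4 c p p' = 0 := fun p' => by
      rw [← hform, show L (C p) = 0 from hp]
      rw [show (0 : ι → F) = (0 : F) • 0 by simp, bb_smul_left, zero_smul]
    have e1 := hb (0, 1, 0)
    have e2 := hb (1, 0, 0)
    have e3 := hb (0, 0, (1, 0))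
    have e4 := hb (0, 0, (0, 1))
    simp [b4, bw, h2', hc1, hc2] at e1 e2 e3 e4
    ext <;> simp [e1, e2, e3, e4]
  have hcard : Fintype.card (W4 δ) = Fintype.card (ι → F) := by
    simp only [Fintype.card_prod, card_QK, Fintype.card_fun, hι]
    ring
  let e := LinearEquiv.ofBijective (L.comp C) ((Fintype.bijective_iff_injective_and_card _).2 ⟨hinj, hcard⟩)
  have he : ∀ p, Q (e p) = 2 * (q4 c p).re := fun p => by
    rw [← re_bb_self (Θ := Θ) (δ := δ) h2, show e p = L (C p) from rfl, hform]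
    simp only [b4, q4, bw_self, re_add, re_mul, re_ofNat, im_ofNat]
    ring
  have hθ : ∀ p, Θ *ᵥ e p = e (th δ • p) := fun p => by
    show Θ *ᵥ ∑ i, km Θ δ (C p i) (w i) = ∑ i, km Θ δ (C (th δ • p) i) (w i)
    rw [Matrix.mulVec_sum]
    refine Finset.sum_congr rfl fun i _ => ?_
    rw [theta_km hΘ]
    congr 1
    fin_cases i <;> simp [C] <;> ring
  refine ⟨⟨c, e, he, hθ, fun X hX => ?_⟩⟩
  by_contra hX0
  let E : QK δ × QK δ →ₗ[F] W4 δ :=
    { toFun := fun a => (a.1, 0, a.2 • X)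
      map_add' := fun a a' => by simp [add_smul]
      map_smul' := fun t a => by simp [smul_assoc] }
  have hEinj : Function.Injective (e.toLinearMap.comp E) := e.injective.comp fun a a' h => by
    have h1 : a.1 = a'.1 := congrArg (fun r : W4 δ => r.1) h
    have h3 : a.2 • X = a'.2 • X := congrArg (fun r : W4 δ => r.2.2) h
    refine Prod.ext h1 ?_
    rw [← sub_eq_zero, ← sub_smul] at h3
    by_contra hne
    apply hX0
    have := congrArg ((a.2 - a'.2)⁻¹ • ·) h3
    simp only [smul_smul, inv_mul_cancel₀ (sub_ne_zero.2 hne), one_smul, smul_zero] at this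
    exact this
  refine hminus (LinearMap.range (e.toLinearMap.comp E)) ?_ ?_
  · rintro _ ⟨a, rfl⟩
    show Q (e (E a)) = 0
    rw [he]
    simp [E, q4, qw_smul, hX]
  · rw [LinearMap.finrank_range_of_inj hEinj, Module.finrank_prod, QuadraticAlgebra.finrank_eq_two]

open StdForms in
/-- The order of the isometry group of minus type in dimension eight. -/
theorem card_minus {Q : QuadraticForm F (Fin 8 → F)} (hodd : Odd (Fintype.card F))
    (hQ : (QuadraticMap.polarBilin Q).Nondegenerate)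
    (hminus : ∀ U : Submodule F (Fin 8 → F), (∀ x ∈ U, Q x = 0) → finrank F U ≠ 4) :
    Nat.card (Cfsg.isometryGroup F ⇑Q) = 2 * Fintype.card F ^ 12 * (Fintype.card F ^ 4 + 1) *
      ((Fintype.card F ^ 2 - 1) * (Fintype.card F ^ 4 - 1) * (Fintype.card F ^ 6 - 1)) := by
  classical
  have h2 : (2 : F) ≠ 0 := MaxSub.two_ne_zero_of_odd hodd
  obtain ⟨a, b, hab⟩ := CfsgLib.RootClasses.exists_anisoBin (F := F)
  obtain ⟨P, eP, hP, hPn⟩ := OrthType.exists_transported (n := 8)
    (show Fintype.card (Fin 4 ⊕ Fin 4) = 8 by simp) (plusQ 4 F) (plusQ_nondegenerate 4)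
  obtain ⟨R, eR, hR, hRn⟩ := OrthType.exists_transported (n := 8)
    (show Fintype.card ((Fin 3 ⊕ Fin 3) ⊕ Fin 2) = 8 by simp) (minusQ 3 F a b)
    (minusQ_nondegenerate 3 hab.disc_ne_zero)
  have hPn' : P.polarBilin.Nondegenerate := by simpa using hPn 1 one_ne_zero
  have hRn' : R.polarBilin.Nondegenerate := by simpa using hRn 1 one_ne_zero
  have hnotplus : ∀ (Q' : QuadraticForm F (Fin 8 → F)) (g : (Fin 8 → F) ≃ₗ[F] (Fin 8 → F)),
      (∀ v, P (g v) = Q' v) → ∃ U : Submodule F (Fin 8 → F), (∀ x ∈ U, Q' x = 0) ∧ finrank F U = 4 := by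
    intro Q' g hg
    let L : (Fin 4 → F) →ₗ[F] (Fin 8 → F) := (g.trans eP).symm.toLinearMap ∘ₗ
      { toFun := fun x => Sum.elim x 0
        map_add' := fun x y => by funext i; cases i <;> simp
        map_smul' := fun t x => by funext i; cases i <;> simp }
    refine ⟨LinearMap.range L, ?_, ?_⟩
    · rintro _ ⟨x, rfl⟩
      rw [← hg, hP, show eP (g (L x)) = Sum.elim x 0 from (g.trans eP).apply_symm_apply _]
      show plusQ 4 F _ = 0
      rw [← show Cfsg.quadFormPlus 4 F = ⇑(plusQ 4 F) from (coe_plusQ 4).symm]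
      simp [Cfsg.quadFormPlus]
    · rw [LinearMap.finrank_range_of_inj, Module.finrank_fin_fun]
      intro x y h
      funext i
      exact congrFun ((g.trans eP).symm.injective h) (Sum.inl i)
  have hne : ¬ IsSquare ((FormDiscr.gram P).det * (FormDiscr.gram R).det) := by
    intro hsq
    obtain ⟨g, hg⟩ := (FormDiscr.equivalent_iff h2 P R hPn' hRn').mpr hsq
    have hc : Nat.card {v // P v = 0} = Nat.card {v // R v = 0} :=
      Nat.card_congr (g.toEquiv.subtypeEquiv fun v => by show _ ↔ R (g v) = 0; rw [hg])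
    rw [(OrthType.data_of_similar ⇑P ⇑(plusQ 4 F) eP one_ne_zero (fun v => by rw [one_mul, hP])).2, coe_plusQ,
      CfsgLib.Forms4.card_zero_quadFormPlus rfl 4 (by norm_num),
      (OrthType.data_of_similar ⇑R ⇑(minusQ 3 F a b) eR one_ne_zero (fun v => by rw [one_mul, hR])).2, coe_minusQ,
      CfsgLib.Forms4.card_zero_quadFormMinus rfl 4 (by norm_num) a b hab] at hc
    have h1 : Fintype.card F ^ 3 < Fintype.card F ^ 4 := Nat.pow_lt_pow_right Fintype.one_lt_card (by omega)
    have h3 : Fintype.card F ^ 4 ≤ Fintype.card F ^ 7 := Nat.pow_le_pow_right Fintype.card_pos (by omega)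
    norm_num at hc
    omega
  by_cases hsq : IsSquare ((FormDiscr.gram Q).det * (FormDiscr.gram P).det)
  · obtain ⟨g, hg⟩ := (FormDiscr.equivalent_iff h2 Q P hQ hPn').mpr hsq
    obtain ⟨U, hU, hU4⟩ := hnotplus Q g hg
    exact absurd hU4 (hminus U hU)
  · have hP0 := FormDiscr.gram_det_ne_zero P hPn'
    have hsqR : IsSquare ((FormDiscr.gram Q).det * (FormDiscr.gram R).det) := by
      obtain ⟨s, hs⟩ := CfsgLib.Forms.isSquare_mul_of_not_isSquare hsq hne
      exact ⟨s / (FormDiscr.gram P).det, by field_simp; linear_combination hs⟩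
    obtain ⟨g, hg⟩ := (FormDiscr.equivalent_iff h2 Q R hQ hRn').mpr hsqR
    rw [(OrthType.data_of_similar ⇑Q ⇑(minusQ 3 F a b) (g.trans eR) one_ne_zero
      (fun v => by rw [one_mul, ← hg, hR]; rfl)).1, coe_minusQ,
      CfsgLib.Forms4.card_isometryGroup_quadFormMinus rfl 4 (by norm_num) a b hab]
    simp [Finset.prod_range_succ]

end CfsgLib.OrthExtFour
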