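import Cfsg.Agent.OrthExtFour.Count
import Cfsg.Agent.OrthExtFour.Exists
import Cfsg.Agent.ExtField.Bridge

/-!
# `O₄(q²)` is maximal in `Ω₈⁻(q)`

`isMaximalIn_orth_ext_four`: the normaliser of a self-adjoint quadratic field of matrices, in
`Ω` of an eight-dimensional form of minus type, odd characteristic.
-/

set_option autoImplicit false
set_option linter.unusedSectionVars false

namespace CfsgLib.OrthExtFour

open Matrix Module QuadraticAlgebra CfsgLib.Spinor CfsgLib.Forms CfsgLib.OrthMax Cfsg.Geo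

variable {F : Type*} [Field F] [Fintype F]

/-- A generator with square a non-square scalar. -/
theorem exists_theta {ι : Type} [Fintype ι] [DecidableEq ι] (h2 : (2 : F) ≠ 0)
    {K : Subalgebra F (Matrix ι ι F)} (hK : IsFieldSubalgebra 2 K) :
    ∃ (Θ : Matrix ι ι F) (δ : F), Θ ∈ K ∧ Θ * Θ = δ • (1 : Matrix ι ι F) ∧ (∀ r : F, r ^ 2 ≠ δ) ∧
      (∀ a b : F, a • (1 : Matrix ι ι F) + b • Θ = 0 → a = 0 ∧ b = 0) ∧
      ∀ k ∈ K, ∃ a b : F, k = a • (1 : Matrix ι ι F) + b • Θ := by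
  obtain ⟨k, hk, hks⟩ : ∃ k ∈ K, ∀ a : F, a • (1 : Matrix ι ι F) ≠ k := by
    by_contra! h
    have hle : Subalgebra.toSubmodule K ≤ Submodule.span F {(1 : Matrix ι ι F)} := fun x hx => by
      obtain ⟨a, ha⟩ := h x hx
      exact Submodule.mem_span_singleton.2 ⟨a, ha⟩
    have h1 := Submodule.finrank_mono hle
    have h3 := finrank_span_le_card (R := F) {(1 : Matrix ι ι F)}
    rw [Set.toFinset_singleton, Finset.card_singleton] at h3
    have h4 : finrank F (Subalgebra.toSubmodule K) = 2 := hK.finrank_eq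
    omega
  -- `k ^ 2` is a combination of `1` and `k`
  have hind : ∀ a b : F, a • (1 : Matrix ι ι F) + b • k = 0 → a = 0 ∧ b = 0 := by
    intro a b hab
    have hb : b = 0 := by
      by_contra hb
      refine hks (-(a / b)) ?_
      rw [eq_comm, ← smul_right_inj hb, smul_smul, mul_neg, mul_div_cancel₀ _ hb, neg_smul]
      exact eq_neg_of_add_eq_zero_right hab
    refine ⟨?_, hb⟩
    rw [hb, zero_smul, add_zero] at hab
    by_contra ha
    have h1 : (1 : Matrix ι ι F) = 0 := (smul_eq_zero.1 hab).resolve_left ha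
    exact hks 0 (by rw [zero_smul, ← mul_one k, h1, mul_zero])
  let L : F × F →ₗ[F] K :=
    { toFun := fun p => ⟨p.1 • 1 + p.2 • k, K.add_mem (K.smul_mem K.one_mem _) (K.smul_mem hk _)⟩
      map_add' := fun p q => Subtype.ext (by simp only [Prod.fst_add, Prod.snd_add, Subalgebra.coe_add]; module)
      map_smul' := fun t p => Subtype.ext (by
        simp only [Prod.smul_fst, Prod.smul_snd, RingHom.id_apply, SetLike.val_smul, smul_eq_mul]; module) }
  have hinj : Function.Injective L := by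
    rw [← LinearMap.ker_eq_bot, Submodule.eq_bot_iff]
    intro p hp
    obtain ⟨e1, e2⟩ := hind p.1 p.2 (congrArg Subtype.val hp)
    exact Prod.ext e1 e2
  have hspan : ∀ x ∈ K, ∃ a b : F, x = a • (1 : Matrix ι ι F) + b • k := fun x hx => by
    haveI : FiniteDimensional F K := FiniteDimensional.finiteDimensional_submodule (Subalgebra.toSubmodule K)
    obtain ⟨p, hp⟩ := (LinearMap.injective_iff_surjective_of_finrank_eq_finrank (by
      rw [Module.finrank_prod, Module.finrank_self, hK.finrank_eq])).1 hinj ⟨x, hx⟩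
    exact ⟨p.1, p.2, (congrArg Subtype.val hp).symm⟩
  obtain ⟨a, b, hab⟩ := hspan _ (K.mul_mem hk hk)
  obtain ⟨Θ, hΘ⟩ : ∃ Θ, Θ = k + (-(b / 2)) • (1 : Matrix ι ι F) := ⟨_, rfl⟩
  have hΘK : Θ ∈ K := hΘ ▸ K.add_mem hk (K.smul_mem K.one_mem _)
  have hsq : Θ * Θ = (a + b ^ 2 / 4) • (1 : Matrix ι ι F) := by
    rw [hΘ]
    simp only [add_mul, mul_add, smul_mul_assoc, mul_smul_comm, one_mul, mul_one, hab]
    have h40 : (4 : F) ≠ 0 := by
      rw [show (4 : F) = 2 * 2 by norm_num]; exact mul_ne_zero h2 h2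
    match_scalars <;> field_simp <;> ring
  refine ⟨Θ, a + b ^ 2 / 4, hΘK, hsq, fun r hr => ?_, fun a' b' h => ?_, fun x hx => ?_⟩
  · have hd : ∀ t : F, Θ + t • (1 : Matrix ι ι F) ≠ 0 := fun t h => by
      refine hks (b / 2 - t) ?_
      rw [hΘ] at h
      rw [← sub_eq_zero, ← neg_eq_zero, ← h]
      module
    obtain ⟨y, -, hy⟩ := hK.inv _ (K.add_mem hΘK (K.smul_mem K.one_mem _)) (hd (-r))
    have h0 : (Θ + r • (1 : Matrix ι ι F)) * (Θ + (-r) • (1 : Matrix ι ι F)) = 0 := by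
      simp only [add_mul, mul_add, smul_mul_assoc, mul_smul_comm, one_mul, mul_one, hsq, ← hr]
      module
    refine hd r ?_
    have h1 := congrArg ((Θ + r • (1 : Matrix ι ι F)) * ·) hy
    simp only [← mul_assoc, h0, zero_mul, mul_one] at h1
    exact h1.symm
  · rw [hΘ, smul_add, smul_smul, add_left_comm, ← add_smul, add_comm] at h
    obtain ⟨e1, e2⟩ := hind _ _ h
    exact ⟨by simpa [e2] using e1, e2⟩
  · obtain ⟨a', b', rfl⟩ := hspan x hx
    exact ⟨a' + b' * (b / 2), b', by rw [hΘ]; module⟩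

/-- **The normaliser of a self-adjoint quadratic field of matrices is maximal in `Ω₈⁻(q)`.** -/
theorem isMaximalIn_orth_ext_four {Q : QuadraticForm F (Fin 8 → F)} (hodd : Odd (Fintype.card F))
    (hQ : (QuadraticMap.polarBilin Q).Nondegenerate) (hminus : ¬ IsPlusTypeOn ⇑Q ⊤)
    {K : Subalgebra F (Matrix (Fin 8) (Fin 8) F)} (hK : IsFieldSubalgebra 2 K)
    (hsa : IsSelfAdjointFor (QuadraticMap.polar ⇑Q) K) :
    IsMaximalIn (omegaGL ⇑Q) (subalgebraNormalizer K ⊓ omegaGL ⇑Q) := by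
  have h2 : (2 : F) ≠ 0 := MaxSub.two_ne_zero_of_odd hodd
  obtain ⟨Θ, δ, hΘK, hΘ, hns, hind, hspan⟩ := exists_theta h2 hK
  haveI : Fact (∀ r : F, r ^ 2 ≠ δ + 0 * r) := ⟨fun r => by simpa using hns r⟩
  have hminus' : ∀ U : Submodule F (Fin 8 → F), (∀ x ∈ U, Q x = 0) → finrank F U ≠ 4 :=
    fun U hU h4 => hminus ⟨U, le_top, hU, by rw [h4, finrank_top, Module.finrank_fin_fun]⟩
  obtain ⟨φ⟩ := exists_frame (δ := δ) (Θ := Θ) hodd hΘ (by simp) h2 delta_ne hQ
    (fun x y => hsa Θ hΘK x y) hminus'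
  have hlin : ∀ (g : Isom Q) (s : F), (∀ p, ap φ g (th δ • p) = s • th δ • ap φ g p) ↔
      mat Q g * Θ = s • (Θ * mat Q g) := fun g s => by
    constructor
    · intro h
      refine Matrix.ext_iff_mulVec.2 fun x => ?_
      obtain ⟨p, rfl⟩ := φ.e.surjective x
      rw [smul_mulVec, ← mulVec_mulVec, ← mulVec_mulVec, φ.theta, ← e_ap, ← e_ap, φ.theta, h, φ.e.map_smul]
    · intro h p
      apply φ.e.injective
      rw [φ.e.map_smul, ← φ.theta, e_ap, e_ap, ← φ.theta, mulVec_mulVec, mulVec_mulVec, h, smul_mulVec]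
  have hN : ∀ g : Isom Q, (g : GL (Fin 8) F) ∈ subalgebraNormalizer K ↔ InN φ g := by
    intro g
    have hmem : ∀ a b : F, a • (1 : Matrix (Fin 8) (Fin 8) F) + b • Θ ∈ K := fun a b =>
      K.add_mem (K.smul_mem K.one_mem _) (K.smul_mem hΘK _)
    constructor
    · intro hg
      obtain ⟨a, b, hab⟩ := hspan _ ((hg Θ).1 hΘK)
      have hgi : ((g : GL (Fin 8) F)⁻¹ : GL (Fin 8) F).1 * mat Q g = 1 := Units.inv_mul _
      have hgΘ : mat Q g * Θ = (a • (1 : Matrix (Fin 8) (Fin 8) F) + b • Θ) * mat Q g := by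
        rw [← hab, mul_assoc, hgi, mul_one]
      have hsq : mat Q g * (Θ * Θ) =
          ((a • (1 : Matrix (Fin 8) (Fin 8) F) + b • Θ) * (a • (1 : Matrix (Fin 8) (Fin 8) F) + b • Θ)) * mat Q g := by
        rw [← mul_assoc, hgΘ, mul_assoc, hgΘ, ← mul_assoc]
      rw [hΘ, mul_smul_comm, mul_one] at hsq
      have hgr : mat Q g * ((g : GL (Fin 8) F)⁻¹ : GL (Fin 8) F).1 = 1 := Units.mul_inv _
      have hcan := congrArg (· * ((g : GL (Fin 8) F)⁻¹ : GL (Fin 8) F).1) hsq
      simp only [smul_mul_assoc, mul_assoc, hgr, mul_one] at hcan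
      have h0 : (a * a + δ * (b * b) - δ) • (1 : Matrix (Fin 8) (Fin 8) F) + (2 * (a * b)) • Θ = 0 := by
        simp only [add_mul, mul_add, smul_mul_assoc, mul_smul_comm, one_mul, mul_one, hΘ] at hcan
        linear_combination (norm := module) -hcan
      obtain ⟨e1, e2⟩ := hind _ _ h0
      rcases mul_eq_zero.1 ((mul_eq_zero.1 e2).resolve_left h2) with rfl | rfl
      · have hb : b * b = 1 * 1 := mul_left_cancel₀ (delta_ne (δ := δ)) (by linear_combination e1)
        rw [zero_smul, zero_add, smul_mul_assoc] at hgΘ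
        rcases mul_self_eq_mul_self_iff.1 hb with rfl | rfl
        · exact Or.inl fun p => by rw [((hlin g 1).2 hgΘ) p, one_smul]
        · exact Or.inr fun p => by rw [((hlin g (-1)).2 hgΘ) p, neg_one_smul]
      · exact absurd (by linear_combination e1 : a ^ 2 = δ) (hns a)
    · intro hg
      obtain ⟨s, hs⟩ : ∃ s : F, mat Q g * Θ = s • (Θ * mat Q g) := by
        rcases hg with h | h
        · exact ⟨1, (hlin g 1).1 fun p => by rw [h, one_smul]⟩
        · exact ⟨-1, (hlin g (-1)).1 fun p => by rw [h, neg_one_smul]⟩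
      refine ExtField.mem_normalizer_of_conj_mem fun k hk => ?_
      obtain ⟨a, b, rfl⟩ := hspan k hk
      rw [mul_add, mul_smul_comm, mul_smul_comm, mul_one, show ((g : GL (Fin 8) F) : Matrix (Fin 8) (Fin 8) F) * Θ =
        s • (Θ * ((g : GL (Fin 8) F) : Matrix (Fin 8) (Fin 8) F)) from hs, add_mul, smul_mul_assoc, smul_mul_assoc,
        smul_mul_assoc, Units.mul_inv, mul_assoc, Units.mul_inv, mul_one, smul_smul]
      exact hmem _ _
  have hn : 5 ≤ Fintype.card (Fin 8) := by simp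
  refine isMaximalIn_omega _ ⟨tIso φ 1, eich_mem_omega hQ hn _ _, fun h => ?_⟩ fun M hM g hg hgΩ hgN => ?_
  · rcases (hN _).1 h with h' | h'
    · have := congrArg (fun p : W4 δ => p.1.re) (h' (0, 1, 0))
      simp [ap_tIso] at this
      exact mul_ne_zero (mul_ne_zero h2 h2) (delta_ne (δ := δ)) (by linear_combination -this)
    · have := congrArg (fun p : W4 δ => p.2.1.im) (h' (0, 1, 0))
      simp [ap_tIso] at this
      exact h2 (by linear_combination this)
  · have hM' : ∀ k ∈ Cfsg.Omega F ⇑Q, InN φ k → k ∈ M ⊓ Cfsg.Omega F ⇑Q := fun k hk hkN =>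
      ⟨hM k hk ((hN k).2 hkN), hk⟩
    obtain ⟨x, hx, hxs, hxN⟩ := exists_stab_notMem φ hodd h2 hQ (by simp) (card_minus hodd hQ hminus')
      hM' inf_le_right (g := g) ⟨hg, hgΩ⟩ fun h => hgN ((hN g).2 h)
    obtain ⟨t, ht, htM⟩ := exists_tIso φ h2 hQ hn hM' inf_le_right hx hxs hxN
    exact (omega_le_of_tIso φ hodd h2 hQ hn hM' ht htM).trans inf_le_left

end CfsgLib.OrthExtFour
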