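import Cfsg.Agent.OrthMax.Basic
import Cfsg.Agent.PrimeGraphBC.OrthBase
import Mathlib.Algebra.QuadraticAlgebra.Basic

/-!
# `O₄(q²)` inside `O₈(q)`: the coordinate model

A frame identifies `F^8` with `K × K × (K × K)`, `K = F(√δ)`, the form becoming the trace of
`a b + c₁ x² + c₂ y²` with anisotropic binary part.
-/

set_option autoImplicit false
set_option linter.unusedSectionVars false

namespace CfsgLib.OrthExtFour

open Matrix Module QuadraticAlgebra CfsgLib.Spinor CfsgLib.Forms CfsgLib.OrthMax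

variable {F : Type*} [Field F] {δ : F}

/-- The quadratic extension. -/
abbrev QK (δ : F) := QuadraticAlgebra F δ 0

/-- Coordinates: a hyperbolic pair and an anisotropic plane. -/
abbrev W4 (δ : F) := QK δ × QK δ × (QK δ × QK δ)

/-- The square root of `δ`. -/
abbrev th (δ : F) : QK δ := ⟨0, 1⟩

/-- The first basis vector. -/
abbrev u0 (δ : F) : W4 δ := (1, 0, 0)

/-- The second basis vector. -/
abbrev v0 (δ : F) : W4 δ := (0, 1, 0)

/-- The polar form of the binary part. -/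
def bw (c w X : QK δ × QK δ) : QK δ := 2 * (c.1 * w.1 * X.1 + c.2 * w.2 * X.2)

/-- The binary part. -/
def qw (c X : QK δ × QK δ) : QK δ := c.1 * X.1 ^ 2 + c.2 * X.2 ^ 2

/-- The quaternary form. -/
def q4 (c : QK δ × QK δ) (p : W4 δ) : QK δ := p.1 * p.2.1 + qw c p.2.2

/-- Its polar form. -/
def b4 (c : QK δ × QK δ) (p p' : W4 δ) : QK δ :=
  p.1 * p'.2.1 + p.2.1 * p'.1 + bw c p.2.2 p'.2.2

theorem q4_add (c : QK δ × QK δ) (p p' : W4 δ) : q4 c (p + p') = q4 c p + q4 c p' + b4 c p p' := by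
  simp only [q4, b4, qw, bw, Prod.fst_add, Prod.snd_add]
  ring

theorem bw_self (c X : QK δ × QK δ) : bw c X X = 2 * qw c X := by
  simp only [qw, bw]; ring

theorem bw_comm (c w X : QK δ × QK δ) : bw c w X = bw c X w := by
  simp only [bw]; ring

theorem bw_smul_right (c w X : QK δ × QK δ) (k : QK δ) : bw c w (k • X) = k * bw c w X := by
  simp only [bw, Prod.smul_fst, Prod.smul_snd, smul_eq_mul]; ring

theorem bw_add_right (c w X Y : QK δ × QK δ) : bw c w (X + Y) = bw c w X + bw c w Y := by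
  simp only [bw, Prod.fst_add, Prod.snd_add]; ring

theorem qw_smul (c X : QK δ × QK δ) (k : QK δ) : qw c (k • X) = k ^ 2 * qw c X := by
  simp only [qw, Prod.smul_fst, Prod.smul_snd, smul_eq_mul]; ring

theorem qw_neg (c X : QK δ × QK δ) : qw c (-X) = qw c X := by
  simp only [qw, Prod.fst_neg, Prod.snd_neg]; ring

theorem bw_smul_left (c w X : QK δ × QK δ) (k : QK δ) : bw c (k • w) X = k * bw c w X := by
  rw [bw_comm, bw_smul_right, bw_comm]

theorem bw_neg_right (c w X : QK δ × QK δ) : bw c w (-X) = -bw c w X := by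
  simp only [bw, Prod.fst_neg, Prod.snd_neg]; ring

theorem bw_neg_left (c w X : QK δ × QK δ) : bw c (-w) X = -bw c w X := by
  rw [bw_comm, bw_neg_right, bw_comm]

theorem bw_sub_right (c w X Y : QK δ × QK δ) : bw c w (X - Y) = bw c w X - bw c w Y := by
  rw [sub_eq_add_neg, bw_add_right, bw_neg_right, sub_eq_add_neg]

theorem bw_smulF_right (c w X : QK δ × QK δ) (t : F) : bw c w (t • X) = t • bw c w X := by
  simp only [bw, Prod.smul_fst, Prod.smul_snd, mul_smul_comm, ← smul_add]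

theorem bw_smulF_left (c w X : QK δ × QK δ) (t : F) : bw c (t • w) X = t • bw c w X := by
  rw [bw_comm, bw_smulF_right, bw_comm]

theorem qw_smulF (c X : QK δ × QK δ) (t : F) : qw c (t • X) = t ^ 2 • qw c X := by
  simp only [qw, Prod.smul_fst, Prod.smul_snd, smul_pow, mul_smul_comm, ← smul_add]

@[simp] theorem bw_zero_right (c w : QK δ × QK δ) : bw c w 0 = 0 := by simp [bw]

@[simp] theorem bw_zero_left (c X : QK δ × QK δ) : bw c 0 X = 0 := by simp [bw]

@[simp] theorem qw_zero (c : QK δ × QK δ) : qw c 0 = 0 := by simp [qw]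

variable {ι : Type} [Fintype ι] [DecidableEq ι]

/-- Coordinates for `Q` and the matrix `Θ`. -/
structure Frame (Q : QuadraticForm F (ι → F)) (Θ : Matrix ι ι F) (δ : F) where
  c : QK δ × QK δ
  e : W4 δ ≃ₗ[F] (ι → F)
  quad : ∀ p, Q (e p) = 2 * (q4 c p).re
  theta : ∀ p, Θ *ᵥ e p = e (th δ • p)
  aniso : ∀ X, qw c X = 0 → X = 0

variable {Q : QuadraticForm F (ι → F)} {Θ : Matrix ι ι F} (φ : Frame Q Θ δ)

theorem Frame.c1_ne : φ.c.1 ≠ 0 := fun h => by
  simpa using φ.aniso (1, 0) (by simp [qw, h])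

theorem Frame.c2_ne : φ.c.2 ≠ 0 := fun h => by
  simpa using φ.aniso (0, 1) (by simp [qw, h])

theorem Frame.polar (p p' : W4 δ) :
    QuadraticMap.polar (⇑Q) (φ.e p) (φ.e p') = 2 * (b4 φ.c p p').re := by
  rw [QuadraticMap.polar, ← map_add, φ.quad, φ.quad, φ.quad, q4_add]
  simp only [re_add]
  ring

/-- The map of an isometry in coordinates. -/
def ap (g : Isom Q) : W4 δ →ₗ[F] W4 δ :=
  φ.e.symm.toLinearMap ∘ₗ (mat Q g).mulVecLin ∘ₗ φ.e.toLinearMap

theorem e_ap (g : Isom Q) (p : W4 δ) : φ.e (ap φ g p) = mat Q g *ᵥ φ.e p := by simp [ap]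

theorem ap_mul (g h : Isom Q) (p : W4 δ) : ap φ (g * h) p = ap φ g (ap φ h p) := by
  apply φ.e.injective
  rw [e_ap, e_ap, e_ap, mulVec_mulVec, ← mat_mul]

theorem ap_one (p : W4 δ) : ap φ 1 p = p := by
  apply φ.e.injective
  rw [e_ap, mat_one, one_mulVec]

theorem ap_inv_ap (g : Isom Q) (p : W4 δ) : ap φ g⁻¹ (ap φ g p) = p := by
  rw [← ap_mul, inv_mul_cancel, ap_one]

theorem ap_ap_inv (g : Isom Q) (p : W4 δ) : ap φ g (ap φ g⁻¹ p) = p := by
  rw [← ap_mul, mul_inv_cancel, ap_one]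

theorem ap_injective (g : Isom Q) : Function.Injective (ap φ g) :=
  Function.LeftInverse.injective (ap_inv_ap φ g)

theorem eq_of_ap {g h : Isom Q} (H : ∀ p, ap φ g p = ap φ h p) : g = h := by
  refine mat_ext Q (Matrix.ext_iff_mulVec.2 fun x => ?_)
  obtain ⟨p, rfl⟩ := φ.e.surjective x
  rw [← e_ap, ← e_ap, H]

theorem re_b4_ap (g : Isom Q) (h2 : (2 : F) ≠ 0) (p p' : W4 δ) :
    (b4 φ.c (ap φ g p) (ap φ g p')).re = (b4 φ.c p p').re := by
  refine mul_left_cancel₀ h2 ?_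
  rw [← φ.polar, ← φ.polar, e_ap, e_ap, polar_mulVec]

theorem re_q4_ap (g : Isom Q) (h2 : (2 : F) ≠ 0) (p : W4 δ) :
    (q4 φ.c (ap φ g p)).re = (q4 φ.c p).re := by
  refine mul_left_cancel₀ h2 ?_
  rw [← φ.quad, ← φ.quad, e_ap, quad_mulVec]

/-- The isometry with a given map in coordinates. -/
def mkIso (f : W4 δ ≃ₗ[F] W4 δ) (hf : ∀ p, (q4 φ.c (f p)).re = (q4 φ.c p).re) : Isom Q :=
  ⟨⟨LinearMap.toMatrix' ((φ.e.symm.trans f).trans φ.e).toLinearMap,
    LinearMap.toMatrix' ((φ.e.symm.trans f).trans φ.e).symm.toLinearMap,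
    by rw [← LinearMap.toMatrix'_comp, LinearEquiv.comp_coe, LinearEquiv.symm_trans_self,
      LinearEquiv.refl_toLinearMap, LinearMap.toMatrix'_id],
    by rw [← LinearMap.toMatrix'_comp, LinearEquiv.comp_coe, LinearEquiv.self_trans_symm,
      LinearEquiv.refl_toLinearMap, LinearMap.toMatrix'_id]⟩,
    fun x _ => by
      show Q (LinearMap.toMatrix' _ *ᵥ x) = Q x
      rw [LinearMap.toMatrix'_mulVec]
      show Q (φ.e (f (φ.e.symm x))) = Q x
      rw [φ.quad, hf, ← φ.quad, LinearEquiv.apply_symm_apply]⟩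

theorem ap_mkIso (f : W4 δ ≃ₗ[F] W4 δ) (hf : ∀ p, (q4 φ.c (f p)).re = (q4 φ.c p).re) (p : W4 δ) :
    ap φ (mkIso φ f hf) p = f p := by
  apply φ.e.injective
  rw [e_ap]
  show LinearMap.toMatrix' _ *ᵥ _ = _
  rw [LinearMap.toMatrix'_mulVec]
  simp

/-- The long translations at the first basis vector. -/
def uMap (c w : QK δ × QK δ) : W4 δ →ₗ[F] W4 δ where
  toFun p := (p.1 - bw c w p.2.2 - qw c w * p.2.1, p.2.1, p.2.2 + p.2.1 • w)
  map_add' p p' := by ext <;> simp [bw, qw] <;> ring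
  map_smul' t p := by ext <;> simp [bw, qw] <;> ring

theorem uMap_apply (c w : QK δ × QK δ) (p : W4 δ) :
    uMap c w p = (p.1 - bw c w p.2.2 - qw c w * p.2.1, p.2.1, p.2.2 + p.2.1 • w) := rfl

theorem uMap_uMap (c w w' : QK δ × QK δ) (p : W4 δ) :
    uMap c w (uMap c w' p) = uMap c (w + w') p := by
  simp only [uMap_apply, Prod.ext_iff, Prod.fst_add, Prod.snd_add, Prod.smul_fst, Prod.smul_snd,
    smul_eq_mul, bw, qw]
  refine ⟨?_, trivial, ?_, ?_⟩ <;> ring

theorem uMap_zero (c : QK δ × QK δ) (p : W4 δ) : uMap c 0 p = p := by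
  simp [uMap_apply, bw, qw]

/-- The same as an automorphism. -/
def uEquiv (c w : QK δ × QK δ) : W4 δ ≃ₗ[F] W4 δ :=
  LinearEquiv.ofLinearMap (uMap c w) (uMap c (-w))
    (LinearMap.ext fun p => by simp [uMap_uMap, uMap_zero])
    (LinearMap.ext fun p => by simp [uMap_uMap, uMap_zero])

theorem q4_uMap (c w : QK δ × QK δ) (p : W4 δ) : q4 c (uMap c w p) = q4 c p := by
  simp only [uMap_apply, q4, bw, qw, Prod.fst_add, Prod.snd_add, Prod.smul_fst, Prod.smul_snd,
    smul_eq_mul]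
  ring

/-- Exchange of the two hyperbolic coordinates. -/
def swapW : W4 δ ≃ₗ[F] W4 δ where
  toFun p := (p.2.1, p.1, p.2.2)
  invFun p := (p.2.1, p.1, p.2.2)
  map_add' _ _ := rfl
  map_smul' _ _ := rfl
  left_inv _ := rfl
  right_inv _ := rfl

theorem swapW_apply (p : W4 δ) : swapW p = (p.2.1, p.1, p.2.2) := rfl

theorem q4_swapW (c : QK δ × QK δ) (p : W4 δ) : q4 c (swapW p) = q4 c p := by
  simp only [swapW_apply, q4]; ring

/-- The translation `w` fixing the first basis vector. -/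
def uIso (w : QK δ × QK δ) : Isom Q :=
  mkIso φ (uEquiv φ.c w) fun p => congrArg QuadraticAlgebra.re (q4_uMap φ.c w p)

theorem ap_uIso (w : QK δ × QK δ) (p : W4 δ) : ap φ (uIso φ w) p = uMap φ.c w p := ap_mkIso φ _ _ p

theorem uIso_add (w w' : QK δ × QK δ) : uIso φ (w + w') = uIso φ w * uIso φ w' :=
  eq_of_ap φ fun p => by rw [ap_mul, ap_uIso, ap_uIso, ap_uIso, uMap_uMap]

theorem uIso_zero : uIso φ 0 = 1 :=
  eq_of_ap φ fun p => by rw [ap_uIso, uMap_zero, ap_one]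

theorem uIso_injective : Function.Injective (uIso φ) := fun w w' h => by
  have h' := congrArg (fun g => (ap φ g (v0 δ)).2.2) h
  simpa [ap_uIso, uMap_apply] using h'

/-- The translation `w` fixing the second basis vector. -/
def uIso' (w : QK δ × QK δ) : Isom Q :=
  mkIso φ (swapW.trans ((uEquiv φ.c w).trans swapW)) fun p => by
    show (q4 φ.c (swapW (uMap φ.c w (swapW p)))).re = _
    rw [q4_swapW, q4_uMap, q4_swapW]

theorem ap_uIso' (w : QK δ × QK δ) (p : W4 δ) :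
    ap φ (uIso' φ w) p = (p.1, p.2.1 - bw φ.c w p.2.2 - qw φ.c w * p.1, p.2.2 + p.1 • w) := by
  rw [uIso', ap_mkIso]; rfl

theorem uIso'_add (w w' : QK δ × QK δ) : uIso' φ (w + w') = uIso' φ w * uIso' φ w' :=
  eq_of_ap φ fun p => by
    rw [ap_mul, uIso', uIso', uIso', ap_mkIso, ap_mkIso, ap_mkIso]
    show swapW (uMap φ.c (w + w') (swapW p)) =
      swapW (uMap φ.c w (swapW (swapW (uMap φ.c w' (swapW p)))))
    rw [← uMap_uMap]
    rfl

theorem uIso_mem_omega [Fintype F] (h2 : (2 : F) ≠ 0)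
    (hQ : (QuadraticMap.polarBilin Q).Nondegenerate) (w : QK δ × QK δ) :
    uIso φ w ∈ Cfsg.Omega F ⇑Q := by
  have h : uIso φ w = uIso φ ((2⁻¹ : F) • w) ^ 2 := by
    rw [sq, ← uIso_add, ← add_smul, ← two_mul, mul_inv_cancel₀ h2, one_smul]
  rw [h]
  exact PrimeGraphBC.sq_mem_omega h2 hQ _

theorem uIso'_mem_omega [Fintype F] (h2 : (2 : F) ≠ 0)
    (hQ : (QuadraticMap.polarBilin Q).Nondegenerate) (w : QK δ × QK δ) :
    uIso' φ w ∈ Cfsg.Omega F ⇑Q := by
  have h : uIso' φ w = uIso' φ ((2⁻¹ : F) • w) ^ 2 := by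
    rw [sq, ← uIso'_add, ← add_smul, ← two_mul, mul_inv_cancel₀ h2, one_smul]
  rw [h]
  exact PrimeGraphBC.sq_mem_omega h2 hQ _

section Field

variable [Fact (∀ r : F, r ^ 2 ≠ δ + 0 * r)]

/-- The diagonal element. -/
noncomputable def dEquiv (l : (QK δ)ˣ) : W4 δ ≃ₗ[F] W4 δ where
  toFun p := ((l : QK δ) * p.1, ((l⁻¹ : (QK δ)ˣ) : QK δ) * p.2.1, p.2.2)
  invFun p := (((l⁻¹ : (QK δ)ˣ) : QK δ) * p.1, (l : QK δ) * p.2.1, p.2.2)
  map_add' p p' := by simp [mul_add]
  map_smul' t p := by simp [mul_smul_comm]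
  left_inv p := by simp
  right_inv p := by simp

/-- The diagonal isometry. -/
noncomputable def dIso (l : (QK δ)ˣ) : Isom Q :=
  mkIso φ (dEquiv l) fun p => by
    congr 1
    show q4 φ.c (_, _, _) = _
    simp only [q4]
    rw [mul_mul_mul_comm, Units.mul_inv, one_mul]

theorem ap_dIso (l : (QK δ)ˣ) (p : W4 δ) :
    ap φ (dIso φ l) p = ((l : QK δ) * p.1, ((l⁻¹ : (QK δ)ˣ) : QK δ) * p.2.1, p.2.2) :=
  ap_mkIso φ _ _ p

theorem dIso_mul (l m : (QK δ)ˣ) : dIso φ (l * m) = dIso φ l * dIso φ m :=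
  eq_of_ap φ fun p => by
    simp only [ap_mul, ap_dIso, mul_inv, Units.val_mul, mul_assoc]

/-- The norm-one pairs of the binary part. -/
def Circle (c cs : QK δ × QK δ) : Prop := cs.1 ^ 2 + c.2 / c.1 * cs.2 ^ 2 = 1

/-- A rotation of the binary part. -/
noncomputable def rotMap (c cs : QK δ × QK δ) : W4 δ →ₗ[F] W4 δ where
  toFun p := (p.1, p.2.1,
    (cs.1 * p.2.2.1 - c.2 / c.1 * cs.2 * p.2.2.2, cs.2 * p.2.2.1 + cs.1 * p.2.2.2))
  map_add' p p' := by
    simp only [Prod.fst_add, Prod.snd_add, Prod.mk_add_mk, Prod.mk.injEq, true_and]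
    constructor <;> ring
  map_smul' t p := by
    simp only [Prod.smul_fst, Prod.smul_snd, Prod.smul_mk, RingHom.id_apply, smul_sub, smul_add,
      mul_smul_comm]

theorem rotMap_rotMap (c cs cs' : QK δ × QK δ) (p : W4 δ) :
    rotMap c cs (rotMap c cs' p) = rotMap c
      (cs.1 * cs'.1 - c.2 / c.1 * cs.2 * cs'.2, cs.1 * cs'.2 + cs.2 * cs'.1) p := by
  show (_, _, (_, _)) = (_, _, (_, _))
  simp only [rotMap, LinearMap.coe_mk, AddHom.coe_mk, Prod.mk.injEq, true_and]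
  constructor <;> ring

theorem rotMap_one (c : QK δ × QK δ) (p : W4 δ) : rotMap c (1, 0) p = p := by
  simp [rotMap]

theorem rotMap_inv {c cs : QK δ × QK δ} (h : Circle c cs) (p : W4 δ) :
    rotMap c cs (rotMap c (cs.1, -cs.2) p) = p ∧ rotMap c (cs.1, -cs.2) (rotMap c cs p) = p := by
  have h' : cs.1 ^ 2 + c.2 / c.1 * cs.2 ^ 2 = 1 := h
  constructor <;> rw [rotMap_rotMap] <;>
    (conv_rhs => rw [← rotMap_one c p]) <;>
    refine congrArg (fun t => rotMap c t p) (Prod.ext ?_ ?_) <;> simp only <;>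
    first | linear_combination h' | ring

/-- The rotation as an isometry. -/
noncomputable def rotIso (cs : QK δ × QK δ) (h : Circle φ.c cs) : Isom Q :=
  mkIso φ (LinearEquiv.ofLinearMap (rotMap φ.c cs) (rotMap φ.c (cs.1, -cs.2))
    (LinearMap.ext fun p => (rotMap_inv h p).1) (LinearMap.ext fun p => (rotMap_inv h p).2))
    fun p => by
      congr 1
      have h' : cs.1 ^ 2 + φ.c.2 / φ.c.1 * cs.2 ^ 2 = 1 := h
      have hν : φ.c.1 * (φ.c.2 / φ.c.1) = φ.c.2 := mul_div_cancel₀ _ φ.c1_ne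
      show q4 φ.c (rotMap φ.c cs p) = _
      simp only [rotMap, LinearMap.coe_mk, AddHom.coe_mk, q4, qw]
      generalize φ.c.2 / φ.c.1 = ν at h' hν ⊢
      rw [← hν]
      linear_combination (φ.c.1 * p.2.2.1 ^ 2 + φ.c.1 * ν * p.2.2.2 ^ 2) * h'

theorem ap_rotIso (cs : QK δ × QK δ) (h : Circle φ.c cs) (p : W4 δ) :
    ap φ (rotIso φ cs h) p = rotMap φ.c cs p := ap_mkIso φ _ _ p

end Field

/-! ### Transvections and Eichler elements in coordinates -/

theorem e_quad_u0 : Q (φ.e (u0 δ)) = 0 := by simp [φ.quad, q4, qw]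

theorem ap_eich {k : Isom Q} {u w : W4 δ} (hk : mat Q k = eich Q (φ.e u) (φ.e w)) (p : W4 δ) :
    ap φ k p = p + ((2 * (b4 φ.c u p).re) • w - (2 * (b4 φ.c w p).re) • u -
      (Q (φ.e w) * (2 * (b4 φ.c u p).re)) • u) := by
  apply φ.e.injective
  rw [e_ap, hk, eich_mulVec, φ.polar, φ.polar]
  simp only [map_add, map_sub, map_smul]

/-- The transvection vector at the first basis vector. -/
abbrev tv (δ t : F) : W4 δ := (t • th δ, 0, 0)

theorem polar_u0_tv (t : F) : QuadraticMap.polar (⇑Q) (φ.e (u0 δ)) (φ.e (tv δ t)) = 0 := by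
  simp [φ.polar, b4, bw]

/-- The transvection of the pair `(u, θ u)`. -/
def tIso (t : F) : Isom Q := eichIso Q (φ.e (u0 δ)) (φ.e (tv δ t)) (e_quad_u0 φ) (polar_u0_tv φ t)

theorem ap_tIso (t : F) (p : W4 δ) :
    ap φ (tIso φ t) p = (p.1 + (2 * t) • (th δ * star p.2.1), p.2.1, p.2.2) := by
  rw [tIso, ap_eich φ (mat_eichIso _ _ (e_quad_u0 φ) (polar_u0_tv φ t)) p, φ.quad]
  ext <;> simp [b4, bw, q4, qw] <;> ring

theorem eq_tIso {k : Isom Q} {t : F} (hk : ∀ p, ap φ k p = (p.1 + (2 * t) • (th δ * star p.2.1),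
    p.2.1, p.2.2)) : k = tIso φ t :=
  eq_of_ap φ fun p => by rw [hk, ap_tIso]

end CfsgLib.OrthExtFour
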