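import Cfsg.Agent.OrthExtFour.Endgame

/-!
# `O₄(q²)` inside `O₈(q)`: an element fixing a singular `K`-line outside `N` gives a transvection
-/

set_option autoImplicit false
set_option linter.unusedSectionVars false

namespace CfsgLib.OrthExtFour

open Matrix Module QuadraticAlgebra CfsgLib.Spinor CfsgLib.Forms CfsgLib.OrthMax

variable {F : Type*} [Field F] {δ : F} {ι : Type} [Fintype ι] [DecidableEq ι]
  {Q : QuadraticForm F (ι → F)} {Θ : Matrix ι ι F} (φ : Frame Q Θ δ)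

/-- Stabilising the first singular `K`-line. -/
def Stab (g : Isom Q) : Prop := ∀ a : QK δ, (ap φ g (a, 0, 0)).2 = 0

theorem ap_line {g : Isom Q} (hg : Stab φ g) (a : QK δ) :
    ap φ g (a, 0, 0) = ((ap φ g (a, 0, 0)).1, 0, 0) := Prod.ext rfl (hg a)

theorem eq_zero_of_re_mul {δ : F} (hδ : δ ≠ 0) {b : QK δ} (h : ∀ a : QK δ, (a * b).re = 0) : b = 0 := by
  have h1 := h 1
  have h2 := h (th δ)
  simp [hδ] at h1 h2
  exact QuadraticAlgebra.ext h1 h2

theorem eq_zero_of_bw {X : QK δ × QK δ} (h2 : (2 : QK δ) ≠ 0) (hnz : ∀ a b : QK δ, a * b = 0 → a = 0 ∨ b = 0)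
    (h : ∀ Y, bw φ.c Y X = 0) : X = 0 :=
  φ.aniso X ((hnz _ _ (by rw [← bw_self, h])).resolve_left h2)

theorem eq_smul_one_add (δ : F) (a : QK δ) : a = a.re • 1 + a.im • th δ := by ext <;> simp

theorem decomp (p : W4 δ) : p = (p.1, 0, 0) + ((0, p.2.1, 0) + (0, 0, p.2.2)) := by
  ext <;> simp

variable [Fintype F] [Fact (∀ r : F, r ^ 2 ≠ δ + 0 * r)]

theorem stab_inv {g : Isom Q} (hg : Stab φ g) : Stab φ g⁻¹ := by
  intro a
  have hinj : Function.Injective fun a : QK δ => (ap φ g (a, 0, 0)).1 := fun a a' h => by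
    have : ap φ g (a, 0, 0) = ap φ g (a', 0, 0) := by rw [ap_line φ hg a, ap_line φ hg a', show
      (ap φ g (a, 0, 0)).1 = _ from h]
    exact congrArg Prod.fst (ap_injective φ g this)
  obtain ⟨a', ha'⟩ := Finite.surjective_of_injective hinj a
  have : ap φ g (a', 0, 0) = (a, 0, 0) := by rw [ap_line φ hg a']; simp only at ha'; rw [ha']
  rw [← this, ap_inv_ap]
  rfl

theorem stab_perp (h2 : (2 : F) ≠ 0) {g : Isom Q} (hg : Stab φ g) {p : W4 δ} (hp : p.2.1 = 0) :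
    (ap φ g p).2.1 = 0 := by
  refine eq_zero_of_re_mul delta_ne fun a => ?_
  have h := re_b4_ap φ g h2 (ap φ g⁻¹ (a, 0, 0)) p
  rw [ap_ap_inv, ap_line φ (stab_inv φ hg) a] at h
  simpa [b4, hp] using h

theorem lin_inv {g : Isom Q} (hg : ∀ p, ap φ g (th δ • p) = th δ • ap φ g p) (p : W4 δ) :
    ap φ g⁻¹ (th δ • p) = th δ • ap φ g⁻¹ p := by
  apply ap_injective φ g
  rw [hg, ap_ap_inv, ap_ap_inv]

/-- An isometry moving only along the first line is a transvection. -/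
theorem exists_eq_tIso (h2 : (2 : F) ≠ 0) {k : Isom Q}
    (hk : ∀ p, (ap φ k p).2 = p.2 ∧ ∀ p', p.2.1 = p'.2.1 →
      (ap φ k p).1 - p.1 = (ap φ k p').1 - p'.1) :
    ∃ t, k = tIso φ t := by
  obtain ⟨c, hc⟩ : ∃ c : QK δ → QK δ, c = fun b => (ap φ k (0, b, 0)).1 := ⟨_, rfl⟩
  have hkc : ∀ p, ap φ k p = (p.1 + c p.2.1, p.2) := fun p => by
    refine Prod.ext ?_ (hk p).1
    have h := (hk p).2 (0, p.2.1, 0) rfl
    rw [hc]
    linear_combination h
  have hq : ∀ b, (c b * b).re = 0 := fun b => by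
    have h := re_q4_ap φ k h2 (0, b, 0)
    rw [hkc] at h
    simpa [q4] using h
  have e1 := hq 1
  have e2 := hq (th δ)
  have e3 := hq (1 + th δ)
  have hadd : c (1 + th δ) = c 1 + c (th δ) := by
    rw [hc]
    simp only
    rw [← Prod.fst_add, ← map_add]
    simp
  rw [hadd] at e3
  simp [delta_ne] at e1 e2 e3
  refine ⟨(c 1).im / 2, eq_tIso φ fun p => ?_⟩
  have hlin : c p.2.1 = p.2.1.re • c 1 + p.2.1.im • c (th δ) := by
    rw [hc]
    simp only
    rw [← Prod.smul_fst, ← Prod.smul_fst, ← Prod.fst_add, ← map_smul, ← map_smul, ← map_add]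
    congr 2
    ext <;> simp
  rw [hkc, hlin]
  refine Prod.ext ?_ rfl
  simp only
  rw [mul_div_cancel₀ _ h2]
  ext <;> simp [e1, e2]
  · linear_combination p.2.1.im * e3 - p.2.1.im * e1 - p.2.1.im * δ * e2
  · ring

variable {M : Subgroup (Isom Q)}

/-- Conjugates of long translations, or a transvection. -/
theorem conj_uIso (h2 : (2 : F) ≠ 0) (hU : ∀ w, uIso φ w ∈ M) {x : Isom Q} (hx : x ∈ M)
    (hxs : Stab φ x) (hno : ∀ t, t ≠ 0 → tIso φ t ∉ M) (w : QK δ × QK δ) :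
    ∃ w', x * uIso φ w * x⁻¹ = uIso φ w' := by
  have h2' : (2 : QK δ) ≠ 0 := two_ne_zero_QK h2
  obtain ⟨ρ, hρ⟩ : ∃ ρ, ρ = x * uIso φ w * x⁻¹ := ⟨_, rfl⟩
  rw [← hρ]
  have hρM : ρ ∈ M := hρ ▸ mul_mem (mul_mem hx (hU w)) (inv_mem hx)
  have hlow : ∀ p : W4 δ, p.2.1 = 0 → (ap φ ρ p).2 = p.2 := fun p hp => by
    have hb := stab_perp φ h2 (stab_inv φ hxs) hp
    have hd : ap φ (uIso φ w) (ap φ x⁻¹ p) = (-bw φ.c w (ap φ x⁻¹ p).2.2, 0, 0) + ap φ x⁻¹ p := by
      rw [ap_uIso, uMap_apply, hb]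
      ext <;> simp [hb] <;> ring
    rw [hρ, ap_mul, ap_mul, hd, map_add, ap_ap_inv, ap_line φ hxs]
    simp
  have hline : ∀ a, ap φ ρ (a, 0, 0) = (a, 0, 0) := fun a => by
    have hd : ap φ (uIso φ w) (ap φ x⁻¹ (a, 0, 0)) = ap φ x⁻¹ (a, 0, 0) := by
      rw [ap_line φ (stab_inv φ hxs) a, ap_uIso, uMap_apply]
      simp
    rw [hρ, ap_mul, ap_mul, hd, ap_ap_inv]
  have hb : ∀ b, (ap φ ρ (0, b, 0)).2.1 = b := fun b => by
    refine sub_eq_zero.1 (eq_zero_of_re_mul delta_ne fun a => ?_)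
    have h := re_b4_ap φ ρ h2 (a, 0, 0) (0, b, 0)
    rw [hline] at h
    simp only [b4, zero_mul, add_zero, bw_zero_left, bw_zero_right, re_zero] at h
    rw [mul_sub, re_sub, h, sub_self]
  obtain ⟨f1, hf1⟩ : ∃ f1 : (QK δ × QK δ) → QK δ, f1 = fun X => (ap φ ρ (0, 0, X)).1 := ⟨_, rfl⟩
  obtain ⟨g1, hg1⟩ : ∃ g1 : QK δ → QK δ, g1 = fun b => (ap φ ρ (0, b, 0)).1 := ⟨_, rfl⟩
  obtain ⟨h1, hh1⟩ : ∃ h1 : QK δ → QK δ × QK δ, h1 = fun b => (ap φ ρ (0, b, 0)).2.2 := ⟨_, rfl⟩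
  have hmid : ∀ X, ap φ ρ (0, 0, X) = (f1 X, 0, X) := fun X =>
    Prod.ext (by rw [hf1]) (hlow _ rfl)
  have htop : ∀ b, ap φ ρ (0, b, 0) = (g1 b, b, h1 b) := fun b =>
    Prod.ext (by rw [hg1]) (Prod.ext (hb b) (by rw [hh1]))
  have hρp : ∀ p, ap φ ρ p = (p.1 + g1 p.2.1 + f1 p.2.2, p.2.1, h1 p.2.1 + p.2.2) := fun p => by
    conv_lhs => rw [decomp p]
    rw [map_add, map_add, hline, htop, hmid]
    ext <;> simp [add_assoc]
  have fadd : ∀ X Y, f1 (X + Y) = f1 X + f1 Y := fun X Y => by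
    rw [hf1]
    simp only
    rw [← Prod.fst_add, ← map_add]
    simp
  -- the commutators
  have hcomm : ∀ (w' : QK δ × QK δ) (b : QK δ), f1 (b • w') + bw φ.c w' (h1 b) = 0 := by
    intro w' b
    obtain ⟨k, hk⟩ : ∃ k, k = ρ * uIso φ w' * (uIso φ w' * ρ)⁻¹ := ⟨_, rfl⟩
    have hkM : k ∈ M := hk ▸ mul_mem (mul_mem hρM (hU w')) (inv_mem (mul_mem (hU w') hρM))
    have hstep : ∀ p, ap φ k (ap φ (uIso φ w' * ρ) p) =
        (((ap φ (uIso φ w' * ρ) p).1 + (f1 (p.2.1 • w') + bw φ.c w' (h1 p.2.1))),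
          (ap φ (uIso φ w' * ρ) p).2) ∧ (ap φ (uIso φ w' * ρ) p).2.1 = p.2.1 := by
      intro p
      rw [← ap_mul φ k, hk, inv_mul_cancel_right, ap_mul, ap_mul, ap_uIso, ap_uIso, uMap_apply, hρp,
        hρp, uMap_apply]
      simp only [fadd, bw_add_right]
      refine ⟨Prod.ext ?_ (Prod.ext rfl ?_), trivial⟩ <;> simp only
      · ring
      · exact (add_assoc _ _ _).symm
    have hkp : ∀ p, ap φ k p = (p.1 + (f1 (p.2.1 • w') + bw φ.c w' (h1 p.2.1)), p.2) := fun p => by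
      have := hstep (ap φ (uIso φ w' * ρ)⁻¹ p)
      rw [ap_ap_inv] at this
      rw [this.1, ← this.2]
    obtain ⟨t, rfl⟩ := exists_eq_tIso φ h2 (k := k) fun p => by
      refine ⟨by rw [hkp], fun p' h => ?_⟩
      rw [hkp, hkp, h]; simp
    have ht : t = 0 := by by_contra ht; exact hno t ht hkM
    have h := congrArg Prod.fst (hkp (0, b, 0))
    rw [ht, tIso_zero, ap_one] at h
    simpa using h.symm
  have hf : ∀ X, f1 X = -bw φ.c X (h1 1) := fun X => by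
    have := hcomm X 1
    rw [one_smul] at this
    linear_combination this
  have hh : ∀ b, h1 b = b • h1 1 := fun b => by
    refine sub_eq_zero.1 (eq_zero_of_bw φ h2' (fun _ _ => mul_eq_zero.1) fun Y => ?_)
    have := hcomm Y b
    rw [hf, bw_smul_left] at this
    rw [bw_sub_right, bw_smul_right]
    linear_combination this
  refine ⟨h1 1, ?_⟩
  obtain ⟨k, hk⟩ : ∃ k, k = ρ * uIso φ (-h1 1) := ⟨_, rfl⟩
  have hkp : ∀ p, ap φ k p = (p.1 + (g1 p.2.1 + qw φ.c (h1 1) * p.2.1), p.2) := fun p => by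
    rw [hk, ap_mul, ap_uIso, uMap_apply, hρp, hf, hh p.2.1]
    refine Prod.ext ?_ (Prod.ext rfl ?_) <;> simp only
    · rw [bw_comm φ.c (p.2.2 + _), bw_add_right, bw_smul_right, bw_neg_left, qw_neg, bw_neg_right,
        bw_self]
      ring
    · rw [smul_neg]
      abel
  obtain ⟨t, ht⟩ := exists_eq_tIso φ h2 (k := k) fun p => by
    refine ⟨by rw [hkp], fun p' h => ?_⟩
    rw [hkp, hkp, h]; simp
  have ht0 : t = 0 := by
    by_contra h0
    exact hno t h0 (ht ▸ hk ▸ mul_mem hρM (hU _))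
  rw [ht0, tIso_zero] at ht
  have := mul_eq_one_iff_eq_inv.1 (hk ▸ ht)
  rw [this, inv_eq_iff_mul_eq_one, ← uIso_add, neg_add_cancel, uIso_zero]

/-- **An element of the stabiliser outside `N` gives a transvection.** -/
theorem exists_tIso (h2 : (2 : F) ≠ 0) (hQ : (QuadraticMap.polarBilin Q).Nondegenerate)
    (hn : 5 ≤ Fintype.card ι)
    (hM : ∀ g ∈ Cfsg.Omega F ⇑Q, InN φ g → g ∈ M) (hMΩ : M ≤ Cfsg.Omega F ⇑Q) {x : Isom Q}
    (hx : x ∈ M) (hxs : Stab φ x) (hxN : ¬ InN φ x) : ∃ t, t ≠ 0 ∧ tIso φ t ∈ M := by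
  by_contra hno'
  push Not at hno'
  have h2' : (2 : QK δ) ≠ 0 := two_ne_zero_QK h2
  have hδ : δ ≠ 0 := delta_ne
  have hU : ∀ w, uIso φ w ∈ M := fun w => hM _ (uIso_mem_omega φ h2 hQ w) (Or.inl (lin_uIso φ w))
  have hconj : ∀ w, ∃ w', uIso φ w * x = x * uIso φ w' := fun w => by
    obtain ⟨w', hw'⟩ := conj_uIso φ h2 hU (inv_mem hx) (stab_inv φ hxs) hno' w
    rw [inv_inv] at hw'
    exact ⟨w', by rw [← hw', mul_assoc, mul_inv_cancel_left]⟩
  obtain ⟨J, hJ⟩ : ∃ J : W4 δ → W4 δ, J = fun p => ap φ x (th δ • ap φ x⁻¹ p) := ⟨_, rfl⟩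
  have Jadd : ∀ p p', J (p + p') = J p + J p' := fun p p' => by
    rw [hJ]; simp only [map_add, smul_add]
  have Jsmul : ∀ (t : F) p, J (t • p) = t • J p := fun t p => by
    rw [hJ]; simp only [map_smul, smul_comm (th δ) t]
  have Jcomm : ∀ w p, J (uMap φ.c w p) = uMap φ.c w (J p) := fun w p => by
    obtain ⟨w', hw'⟩ := hconj w
    have hw'' : x⁻¹ * uIso φ w = uIso φ w' * x⁻¹ := by
      rw [eq_mul_inv_iff_mul_eq, mul_assoc, hw', inv_mul_cancel_left]
    rw [hJ]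
    simp only [← ap_uIso]
    rw [← ap_mul φ x⁻¹, hw'', ← ap_mul φ (uIso φ w) x, hw', ap_mul, ← lin_uIso, ap_mul]
  have Jsq : ∀ p, J (J p) = δ • p := fun p => by
    rw [hJ]
    simp only
    rw [ap_inv_ap, smul_smul, show th δ * th δ = δ • (1 : QK δ) by ext <;> simp, smul_assoc, one_smul,
      map_smul, ap_ap_inv]
  have Jadj : ∀ p p', (b4 φ.c (J p) p').re = (b4 φ.c p (J p')).re := fun p p' => by
    rw [hJ]
    conv_lhs => rw [← re_b4_ap φ x⁻¹ h2, ap_inv_ap]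
    conv_rhs => rw [← re_b4_ap φ x⁻¹ h2, ap_inv_ap]
    simp only [b4, Prod.smul_fst, Prod.smul_snd, smul_eq_mul, bw_smul_left, bw_smul_right]
    congr 1
    ring
  have Jlow : ∀ p : W4 δ, p.2.1 = 0 → (J p).2.1 = 0 := fun p hp => by
    rw [hJ]
    exact stab_perp φ h2 hxs (by simp [stab_perp φ h2 (stab_inv φ hxs) hp])
  have Jline : ∀ a, J (a, 0, 0) = ((J (a, 0, 0)).1, 0, 0) := fun a => by
    refine Prod.ext rfl ?_
    rw [hJ]
    simp only
    rw [ap_line φ (stab_inv φ hxs) a, Prod.smul_mk, Prod.smul_mk, smul_zero, smul_zero]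
    exact hxs _
  have Jmid : ∀ X, J (0, 0, X) = ((J (0, 0, X)).1, 0, (J (0, 0, X)).2.2) := fun X =>
    Prod.ext rfl (Prod.ext (Jlow _ rfl) rfl)
  -- the line
  obtain ⟨j0, hj0⟩ : ∃ j0, j0 = (J (1, 0, 0)).1 := ⟨_, rfl⟩
  have hjk : ∀ w X, (J (bw φ.c w X, 0, 0)).1 = bw φ.c w (J (0, 0, X)).2.2 := fun w X => by
    have h := Jcomm w (0, 0, X)
    rw [Jmid X, uMap_apply, uMap_apply] at h
    simp only [mul_zero, sub_zero, zero_smul, add_zero, zero_sub] at h
    rw [show ((-bw φ.c w X, 0, X) : W4 δ) = (0, 0, X) + (-1 : F) • (bw φ.c w X, 0, 0) by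
      ext <;> simp, Jadd, Jsmul, Jline] at h
    have h' := congrArg Prod.fst h
    simp at h'
    linear_combination -h'
  have hsurj : ∀ y : QK δ, ∃ w X, bw φ.c w X = y := fun y =>
    ⟨(1, 0), ((2 * φ.c.1)⁻¹ * y, 0), by
      simp only [bw, mul_zero, add_zero, mul_one]
      rw [← mul_assoc (2 : QK δ), ← mul_assoc, mul_inv_cancel₀ (mul_ne_zero h2' φ.c1_ne), one_mul]⟩
  have hjth : ∀ y, (J (th δ * y, 0, 0)).1 = th δ * (J (y, 0, 0)).1 := fun y => by
    obtain ⟨w, X, rfl⟩ := hsurj y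
    rw [← bw_smul_left, hjk, hjk, bw_smul_left]
  have hj : ∀ y, (J (y, 0, 0)).1 = y * j0 := fun y => by
    have h := hjth 1
    rw [mul_one] at h
    rw [show ((y, 0, 0) : W4 δ) = y.re • (1, 0, 0) + y.im • (th δ, 0, 0) by ext <;> simp, Jadd, Jsmul,
      Jsmul, Prod.fst_add, Prod.smul_fst, Prod.smul_fst, h, ← hj0]
    ext <;> simp <;> ring
  have hk : ∀ X, (J (0, 0, X)).2.2 = j0 • X := fun X => by
    refine sub_eq_zero.1 (eq_zero_of_bw φ h2' (fun _ _ => mul_eq_zero.1) fun Y => ?_)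
    have := hjk Y X
    rw [hj] at this
    rw [bw_sub_right, bw_smul_right]
    linear_combination -this
  have hj0sq : j0 * j0 = th δ * th δ := by
    have h := congrArg Prod.fst (Jsq (1, 0, 0))
    rw [Jline 1, ← hj0, hj] at h
    rw [h]
    ext <;> simp
  -- the opposite line
  have hm : ∀ b, (J (0, b, 0)).2.1 = j0 * b := fun b => by
    refine sub_eq_zero.1 (eq_zero_of_re_mul hδ fun a => ?_)
    have h := Jadj (a, 0, 0) (0, b, 0)
    rw [Jline a, hj] at h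
    simp only [b4, zero_mul, add_zero, bw_zero_left, bw_zero_right, mul_zero] at h
    rw [mul_sub, re_sub, ← mul_assoc, h, sub_self]
  have hns : ∀ b X, (bw φ.c (J (0, b, 0)).2.2 X).re = (b * (J (0, 0, X)).1).re := fun b X => by
    have h := Jadj (0, b, 0) (0, 0, X)
    simpa [b4] using h
  have hs : ∀ w b, (J (0, 0, b • w)).1 = -bw φ.c w (J (0, b, 0)).2.2 := fun w b => by
    have h := congrArg Prod.fst (Jcomm w (0, b, 0))
    simp only [uMap_apply, bw_zero_right, sub_zero, zero_sub, zero_add] at h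
    rw [show ((-(qw φ.c w * b), b, b • w) : W4 δ) =
      (0, b, 0) + ((-(qw φ.c w * b), 0, 0) + (0, 0, b • w)) by ext <;> simp, Jadd, Jadd] at h
    simp only [Prod.fst_add, hj, hm] at h
    linear_combination h
  have hn1 : (J (0, 1, 0)).2.2 = 0 := by
    refine eq_zero_of_bw φ h2' (fun _ _ => mul_eq_zero.1) fun X => eq_zero_of_re_mul hδ fun a => ?_
    have h := hns 1 (a • X)
    have h' := hs (a • X) 1
    rw [one_smul] at h'
    rw [one_mul, h', re_neg, bw_comm, bw_smul_left] at h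
    exact (mul_eq_zero.1 (by linear_combination h : (2 : F) * (a * bw φ.c X (J (0, 1, 0)).2.2).re = 0)
      ).resolve_left h2
  have hs0 : ∀ X, (J (0, 0, X)).1 = 0 := fun X => by
    have h := hs X 1
    rwa [one_smul, hn1, bw_zero_right, neg_zero] at h
  have hn0 : ∀ b, (J (0, b, 0)).2.2 = 0 := fun b => by
    refine eq_zero_of_bw φ h2' (fun _ _ => mul_eq_zero.1) fun Y => ?_
    have h := hs Y b
    rw [hs0] at h
    linear_combination h
  have htop : ∀ b, J (0, b, 0) = ((J (0, b, 0)).1, j0 * b, 0) := fun b =>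
    Prod.ext rfl (Prod.ext (hm b) (hn0 b))
  obtain ⟨l, hl⟩ : ∃ l : QK δ → QK δ, l = fun b => (J (0, b, 0)).1 := ⟨_, rfl⟩
  have hanti : ∀ b, j0 * l b + l (j0 * b) = 0 := fun b => by
    have h := Jsq (0, b, 0)
    rw [htop b, show (((J (0, b, 0)).1, j0 * b, 0) : W4 δ) = ((J (0, b, 0)).1, 0, 0) + (0, j0 * b, 0) by
      ext <;> simp, Jadd, Jline, hj] at h
    have h' := congrArg Prod.fst h
    simp at h'
    rw [hl]
    linear_combination h'
  obtain ⟨ε, hε, hε2⟩ : ∃ ε : F, j0 = ε • th δ ∧ (ε = 1 ∨ ε = -1) := by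
    rcases mul_self_eq_mul_self_iff.1 hj0sq with h | h
    · exact ⟨1, by rw [h, one_smul], Or.inl rfl⟩
    · exact ⟨-1, by rw [h, neg_one_smul], Or.inr rfl⟩
  have hε0 : ε ≠ 0 := by rcases hε2 with rfl | rfl <;> simp
  have lsmul : ∀ (t : F) b, l (t • b) = t • l b := fun t b => by
    rw [hl]
    simp only
    rw [← Prod.smul_fst, ← Jsmul]
    simp
  have hlth : l (th δ) = -(th δ * l 1) := by
    have h := hanti 1
    rw [mul_one, hε, lsmul, smul_mul_assoc, ← smul_add, smul_eq_zero, or_iff_right hε0] at h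
    linear_combination h
  have hl1 : (l 1).im = 0 := by
    have h := Jadj (0, 1, 0) (0, th δ, 0)
    rw [htop 1, htop (th δ)] at h
    rw [hl] at hlth ⊢
    simp [b4, show (J (0, th δ, 0)).1 = _ from hlth] at h
    exact (mul_eq_zero.1 ((mul_eq_zero.1 (by linear_combination h :
      δ * (2 * (J (0, 1, 0)).1.im) = 0)).resolve_left hδ)).resolve_left h2
  have hlb : ∀ b, l b = (l 1).re • star b := fun b => by
    have : l b = b.re • l 1 + b.im • l (th δ) := by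
      rw [hl]
      simp only
      rw [← Prod.smul_fst, ← Prod.smul_fst, ← Prod.fst_add, ← Jsmul, ← Jsmul, ← Jadd]
      congr 2
      ext <;> simp
    rw [this, hlth]
    ext <;> simp [hl1] <;> ring
  have hJp : ∀ p, J p = (j0 * p.1 + (l 1).re • star p.2.1, j0 * p.2.1, j0 • p.2.2) := fun p => by
    conv_lhs => rw [decomp p]
    rw [Jadd, Jadd, Jline, hj, htop, Jmid, hs0, hk, show (J (0, p.2.1, 0)).1 = _ from
      (congrFun hl p.2.1).symm.trans (hlb _)]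
    ext <;> simp <;> ring
  -- untwist
  obtain ⟨t, ht⟩ : ∃ t, t = -(ε * (l 1).re) / (4 * δ) := ⟨_, rfl⟩
  have hκ : (l 1).re = -(4 * t * ε * δ) := by
    have h40 : (4 : F) ≠ 0 := by
      rw [show (4 : F) = 2 * 2 by norm_num]; exact mul_ne_zero h2 h2
    have : ε * ε = 1 := by rcases hε2 with rfl | rfl <;> simp
    rw [ht]
    field_simp
    linear_combination -(l 1).re * this
  have hJT : ∀ r, J (ap φ (tIso φ t) r) = ap φ (tIso φ t) (ε • th δ • r) := fun r => by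
    rw [hJp, ap_tIso, ap_tIso, hκ, hε]
    ext <;> simp <;> ring
  have hxθ : ∀ p, ap φ x (th δ • p) = J (ap φ x p) := fun p => by
    rw [hJ]; simp only [ap_inv_ap]
  have hyN : InN φ ((tIso φ t)⁻¹ * x) := by
    have key : ∀ p, ap φ ((tIso φ t)⁻¹ * x) (th δ • p) = ε • th δ • ap φ ((tIso φ t)⁻¹ * x) p := fun p => by
      rw [ap_mul, ap_mul, hxθ]
      conv_lhs => rw [← ap_ap_inv φ (tIso φ t) (ap φ x p), hJT, ap_inv_ap]
    rcases hε2 with rfl | rfl
    · exact Or.inl fun p => by rw [key, one_smul]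
    · exact Or.inr fun p => by rw [key, neg_one_smul]
  have htΩ : tIso φ t ∈ Cfsg.Omega F ⇑Q := eich_mem_omega hQ hn _ _
  have hyM : (tIso φ t)⁻¹ * x ∈ M := hM _ (mul_mem (inv_mem htΩ) (hMΩ hx)) hyN
  have htM : tIso φ t ∈ M := by
    have := mul_mem hx (inv_mem hyM)
    rwa [_root_.mul_inv_rev, inv_inv, mul_inv_cancel_left] at this
  have ht0 : t ≠ 0 := fun h0 => hxN (by rwa [h0, tIso_zero, inv_one, one_mul] at hyN)
  exact hno' t ht0 htM

end CfsgLib.OrthExtFour
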